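import Mathlib

/-!
The symmetric presentation of the alternating groups by the three-cycles `(i, ∞, ∞')`.
-/

set_option autoImplicit false

namespace CfsgLib.SymPresent

/-- Carmichael's relations. -/
structure Carm {G : Type*} [Group G] {ι : Type*} (x : ι → G) : Prop where
  cube : ∀ i, x i ^ 3 = 1
  pair : ∀ i j, i ≠ j → (x i * x j) ^ 2 = 1

namespace Carm

variable {G : Type*} [Group G] {ι : Type*} {x : ι → G}

theorem inv_eq (h : Carm x) (i : ι) : (x i)⁻¹ = x i * x i := by
  rw [inv_eq_iff_mul_eq_one, ← mul_assoc, ← pow_three', h.cube]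

theorem swap_rel (h : Carm x) {i j : ι} (hij : i ≠ j) : x i * x j = (x j)⁻¹ * (x i)⁻¹ := by
  rw [← mul_inv_rev, eq_inv_iff_mul_eq_one, ← sq, h.pair i j hij]

theorem sandwich (h : Carm x) {i j : ι} (hij : i ≠ j) : x i * x j * x i = (x j)⁻¹ := by
  rw [h.swap_rel hij, inv_mul_cancel_right]

/-- The generators indexed by `s` generate a group of order at most `(|s| + 2)! / 2`. -/
theorem bound (h : Carm x) (s : Finset ι) :
    ((Subgroup.closure (x '' ↑s) : Subgroup G) : Set G).Finite ∧
      2 * Nat.card (Subgroup.closure (x '' ↑s)) ≤ (s.card + 2).factorial := by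
  classical
  induction s using Finset.induction_on with
  | empty => simp
  | @insert e s he ih =>
    obtain ⟨hfin, hcard⟩ := ih
    set H := Subgroup.closure (x '' ↑s) with hH
    set K := Subgroup.closure (x '' ↑(insert e s)) with hK
    have hxH : ∀ i ∈ s, x i ∈ H := fun i hi => Subgroup.subset_closure ⟨i, hi, rfl⟩
    have hne : ∀ i ∈ s, e ≠ i := fun i hi hc => he (hc ▸ hi)
    let R : Finset G := {1, x e, (x e)⁻¹} ∪ s.image (fun j => (x e)⁻¹ * x j)
    have hstep : ∀ r ∈ R, ∀ i ∈ insert e s, ∃ r' ∈ R, r * x i * r'⁻¹ ∈ H := by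
      intro r hr i hi
      simp only [R, Finset.mem_union, Finset.mem_insert, Finset.mem_singleton, Finset.mem_image]
        at hr
      have m1 : (1 : G) ∈ R := by simp [R]
      have m2 : x e ∈ R := by simp [R]
      have m3 : (x e)⁻¹ ∈ R := by simp [R]
      have m4 : ∀ j ∈ s, (x e)⁻¹ * x j ∈ R := fun j hj => by
        simp only [R, Finset.mem_union, Finset.mem_image]
        exact Or.inr ⟨j, hj, rfl⟩
      rw [Finset.mem_insert] at hi
      rcases hi with rfl | hi
      · rcases hr with (rfl | rfl | rfl) | ⟨j, hj, rfl⟩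
        · exact ⟨_, m2, by simp⟩
        · refine ⟨_, m3, ?_⟩
          rw [inv_inv, ← pow_three', h.cube]
          exact H.one_mem
        · exact ⟨_, m1, by simp⟩
        · refine ⟨_, m4 j hj, ?_⟩
          have : (x i)⁻¹ * x j * x i * ((x i)⁻¹ * x j)⁻¹ = (x j)⁻¹ := by
            rw [← h.sandwich (hne j hj), mul_assoc _ (x j) (x i), h.swap_rel (hne j hj).symm,
              mul_inv_rev, inv_inv]
            have h3 : (x i)⁻¹ = x i * x i := h.inv_eq i
            rw [show (x i)⁻¹ * ((x i)⁻¹ * (x j)⁻¹) * ((x j)⁻¹ * x i)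
              = (x i)⁻¹ * (x i)⁻¹ * ((x j)⁻¹ * (x j)⁻¹) * x i by group]
            rw [h3, h.inv_eq j]
            have hc := h.cube i
            have hc' := h.cube j
            rw [pow_three] at hc hc'
            simp only [mul_assoc] at hc hc' ⊢
            simp [hc, hc', ← mul_assoc]
          rw [this]
          exact H.inv_mem (hxH j hj)
      · rcases hr with (rfl | rfl | rfl) | ⟨j, hj, rfl⟩
        · exact ⟨_, m1, by simpa using hxH i hi⟩
        · refine ⟨_, m3, ?_⟩
          rw [h.swap_rel (hne i hi), inv_inv, inv_mul_cancel_right]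
          exact H.inv_mem (hxH i hi)
        · exact ⟨_, m4 i hi, by simp⟩
        · by_cases hij : i = j
          · subst hij
            refine ⟨_, m2, ?_⟩
            have : (x e)⁻¹ * x i * x i * (x e)⁻¹ = x i := by
              rw [mul_assoc ((x e)⁻¹), ← h.inv_eq, ← h.swap_rel (hne i hi).symm, mul_inv_cancel_right]
            rw [this]
            exact hxH i hi
          · refine ⟨_, m4 j hj, ?_⟩
            have : (x e)⁻¹ * x j * x i * ((x e)⁻¹ * x j)⁻¹ = x i * (x j)⁻¹ := by
              calc (x e)⁻¹ * x j * x i * ((x e)⁻¹ * x j)⁻¹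
                  = (x e)⁻¹ * (x j * x i) * (x j)⁻¹ * x e := by group
                _ = (x e)⁻¹ * (x i)⁻¹ * ((x j)⁻¹ * (x j)⁻¹) * x e := by
                    rw [h.swap_rel (Ne.symm hij)]; group
                _ = x i * x e * x j * x e := by
                    have hinv : (x j)⁻¹ * (x j)⁻¹ = x j := by
                      rw [← mul_inv_rev, ← h.inv_eq, inv_inv]
                    rw [hinv, ← h.swap_rel (hne i hi).symm]
                _ = x i * (x j)⁻¹ := by
                    rw [← h.sandwich (hne j hj)]; group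
            rw [this]
            exact H.mul_mem (hxH i hi) (H.inv_mem (hxH j hj))
    have hcov : ∀ g ∈ K, ∃ r ∈ R, g * r⁻¹ ∈ H := by
      intro g hg
      have hmul : ∀ i ∈ insert e s, ∀ g, (∃ r ∈ R, g * r⁻¹ ∈ H) → ∃ r ∈ R, g * x i * r⁻¹ ∈ H := by
        rintro i hi g ⟨r, hr, hg⟩
        obtain ⟨r', hr', hrr⟩ := hstep r hr i hi
        refine ⟨r', hr', ?_⟩
        convert H.mul_mem hg hrr using 1
        group
      induction hg using Subgroup.closure_induction_right with
      | one => exact ⟨1, by simp [R], by simp⟩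
      | mul_right g _ z hz ihg =>
        obtain ⟨i, hi, rfl⟩ := hz
        exact hmul i hi g ihg
      | mul_inv_cancel g _ z hz ihg =>
        obtain ⟨i, hi, rfl⟩ := hz
        rw [h.inv_eq, ← mul_assoc]
        exact hmul i hi _ (hmul i hi g ihg)
    have hR : R.card ≤ s.card + 3 := by
      refine (Finset.card_union_le _ _).trans ?_
      have h1 := Finset.card_le_three (a := (1 : G)) (b := x e) (c := (x e)⁻¹)
      have h2 := Finset.card_image_le (s := s) (f := fun j => (x e)⁻¹ * x j)
      omega
    have hsub : (K : Set G) ⊆ ⋃ r ∈ R, (fun y => y * r) '' (H : Set G) := fun g hg => by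
      obtain ⟨r, hr, hgr⟩ := hcov g hg
      exact Set.mem_biUnion hr ⟨_, hgr, inv_mul_cancel_right g r⟩
    have hfinU : (⋃ r ∈ R, (fun y => y * r) '' (H : Set G)).Finite :=
      R.finite_toSet.biUnion fun r _ => hfin.image _
    refine ⟨hfinU.subset hsub, ?_⟩
    have h1 : Nat.card K ≤ R.card * Nat.card H := by
      show Nat.card (K : Set G) ≤ _
      rw [Nat.card_coe_set_eq]
      calc (K : Set G).ncard ≤ (⋃ r ∈ R, (fun y => y * r) '' (H : Set G)).ncard :=
            Set.ncard_le_ncard hsub hfinU
        _ ≤ ∑ r ∈ R, ((fun y => y * r) '' (H : Set G)).ncard := Finset.set_ncard_biUnion_le _ _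
        _ ≤ ∑ r ∈ R, Nat.card H := Finset.sum_le_sum fun r _ => by
            show _ ≤ Nat.card (H : Set G)
            rw [Nat.card_coe_set_eq]
            exact Set.ncard_image_le hfin
        _ = R.card * Nat.card H := by rw [Finset.sum_const, smul_eq_mul]
    rw [Finset.card_insert_of_notMem he]
    calc 2 * Nat.card K ≤ R.card * (2 * Nat.card H) := by
          rw [Nat.mul_left_comm]; exact Nat.mul_le_mul le_rfl h1
      _ ≤ (s.card + 3) * (s.card + 2).factorial := Nat.mul_le_mul hR hcard
      _ = (s.card + 1 + 2).factorial := (Nat.factorial_succ (s.card + 2)).symm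

theorem bound_univ (h : Carm x) [Fintype ι] :
    Finite (Subgroup.closure (Set.range x)) ∧
      2 * Nat.card (Subgroup.closure (Set.range x)) ≤ (Fintype.card ι + 2).factorial := by
  have := h.bound Finset.univ
  rw [Finset.coe_univ, Set.image_univ] at this
  exact ⟨this.1.to_subtype, this.2⟩

theorem map {H : Type*} [Group H] (h : Carm x) (f : G →* H) : Carm fun i => f (x i) :=
  ⟨fun i => by rw [← map_pow, h.cube, map_one],
    fun i j hij => by rw [← map_mul, ← map_pow, h.pair i j hij, map_one]⟩

end Carm

end CfsgLib.SymPresent
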