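import Mathlib

/-!
Changing the generators of a finite presentation.
-/

set_option autoImplicit false

namespace CfsgLib.SymPresent

/-- A presentation with at most `r` relations on the given generators. -/
def HasPres {ι : Type} {G : Type*} [Group G] (v : ι → G) (r : ℕ) : Prop :=
  ∃ rels : Finset (FreeGroup ι), rels.card ≤ r ∧
    ∃ e : PresentedGroup (↑rels : Set (FreeGroup ι)) ≃* G, ∀ i, e (PresentedGroup.of i) = v i

namespace HasPres

variable {ι κ : Type} {G : Type*} [Group G]

theorem mono {v : ι → G} {r r' : ℕ} (h : HasPres v r) (hr : r ≤ r') : HasPres v r' := by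
  obtain ⟨rels, hc, e⟩ := h
  exact ⟨rels, hc.trans hr, e⟩

theorem lift_eq {v : ι → G} {rels : Set (FreeGroup ι)} (e : PresentedGroup rels ≃* G)
    (he : ∀ i, e (PresentedGroup.of i) = v i) (w : FreeGroup ι) :
    FreeGroup.lift v w = e (PresentedGroup.mk rels w) := by
  have h : FreeGroup.lift v = e.toMonoidHom.comp (PresentedGroup.mk rels) := by
    ext i
    simp only [FreeGroup.lift_apply_of, MonoidHom.comp_apply]
    exact (he i).symm
  rw [h]; rfl

theorem closure_eq_top {v : ι → G} {r : ℕ} (h : HasPres v r) :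
    Subgroup.closure (Set.range v) = ⊤ := by
  obtain ⟨rels, -, e, he⟩ := h
  rw [← FreeGroup.range_lift_eq_closure, eq_top_iff]
  intro g _
  obtain ⟨w, hw⟩ := PresentedGroup.mk_surjective (↑rels : Set (FreeGroup ι)) (e.symm g)
  exact ⟨w, by rw [lift_eq e he, hw, e.apply_symm_apply]⟩

/-- Transport along an isomorphism. -/
theorem map {H : Type*} [Group H] {v : ι → G} {r : ℕ} (h : HasPres v r) (f : G ≃* H) :
    HasPres (fun i => f (v i)) r := by
  obtain ⟨rels, hc, e, he⟩ := h
  exact ⟨rels, hc, e.trans f, fun i => by rw [MulEquiv.trans_apply, he]⟩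

theorem nonempty {v : ι → G} {r : ℕ} (h : HasPres v r) :
    ∃ rels : Finset (FreeGroup ι), rels.card ≤ r ∧
      Nonempty (PresentedGroup (↑rels : Set (FreeGroup ι)) ≃* G) := by
  obtain ⟨rels, hc, e, -⟩ := h
  exact ⟨rels, hc, ⟨e⟩⟩

/-- Tietze transformation to a new generating family: one new relation for each new generator
that is not already a word with the same image. -/
theorem change {v : ι → G} {r : ℕ} (h : HasPres v r) (w : κ → G) (J : Finset κ)
    (θ : ι → FreeGroup κ) (hθ : ∀ i, FreeGroup.lift w (θ i) = v i)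
    (u : κ → FreeGroup ι) (hu : ∀ j, FreeGroup.lift v (u j) = w j)
    (hJ : ∀ j ∉ J, FreeGroup.lift θ (u j) = FreeGroup.of j) :
    HasPres w (r + J.card) := by
  classical
  obtain ⟨rels, hc, e, he⟩ := h
  set Θ := FreeGroup.lift θ with hΘ
  set R : Finset (FreeGroup κ) :=
    rels.image Θ ∪ J.image fun j => FreeGroup.of j * (Θ (u j))⁻¹ with hR
  have hΘv : ∀ x, FreeGroup.lift w (Θ x) = FreeGroup.lift v x := by
    intro x
    have : (FreeGroup.lift w).comp Θ = FreeGroup.lift v := by
      ext i
      simp [Θ, hθ]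
    exact DFunLike.congr_fun this x
  have hrel : ∀ x ∈ (↑R : Set (FreeGroup κ)), FreeGroup.lift w x = 1 := by
    intro x hx
    simp only [R, Finset.coe_union, Set.mem_union, Finset.coe_image, Set.mem_image,
      Finset.mem_coe] at hx
    rcases hx with ⟨y, hy, rfl⟩ | ⟨j, -, rfl⟩
    · rw [hΘv, lift_eq e he, PresentedGroup.one_of_mem (Finset.mem_coe.2 hy), map_one]
    · rw [map_mul, map_inv, hΘv, hu, FreeGroup.lift_apply_of, mul_inv_cancel]
  set φ := PresentedGroup.toGroup hrel
  set q := PresentedGroup.mk (↑R : Set (FreeGroup κ))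
  have hψrel : ∀ x ∈ (↑rels : Set (FreeGroup ι)), FreeGroup.lift (fun i => q (θ i)) x = 1 := by
    intro x hx
    have : FreeGroup.lift (fun i => q (θ i)) = q.comp Θ := by
      ext i
      simp [Θ]
    rw [this]
    refine PresentedGroup.one_of_mem ?_
    simp only [R, Finset.coe_union, Finset.coe_image]
    exact Or.inl ⟨x, hx, rfl⟩
  set ψ := (PresentedGroup.toGroup hψrel).comp e.symm.toMonoidHom
  have hψv : ∀ x, ψ (FreeGroup.lift v x) = q (Θ x) := by
    intro x
    have : ψ.comp (FreeGroup.lift v) = q.comp Θ := by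
      ext i
      simp only [MonoidHom.comp_apply, FreeGroup.lift_apply_of, ψ, MulEquiv.coe_toMonoidHom, Θ,
        ← he i, e.symm_apply_apply]
      exact PresentedGroup.toGroup.of hψrel
    exact DFunLike.congr_fun this x
  have hleft : ψ.comp φ = MonoidHom.id _ := by
    refine PresentedGroup.ext fun j => ?_
    show ψ (φ (PresentedGroup.of j)) = PresentedGroup.of j
    rw [show φ (PresentedGroup.of j) = w j from PresentedGroup.toGroup.of hrel, ← hu j, hψv]
    by_cases hj : j ∈ J
    · have h1 := PresentedGroup.one_of_mem (rels := (↑R : Set (FreeGroup κ)))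
        (x := FreeGroup.of j * (Θ (u j))⁻¹) (by
          simp only [R, Finset.coe_union, Finset.coe_image]
          exact Or.inr ⟨j, hj, rfl⟩)
      rw [map_mul, map_inv, mul_inv_eq_one] at h1
      exact h1.symm
    · rw [hJ j hj]; rfl
  have hsurj : Function.Surjective φ := by
    intro g
    obtain ⟨x, hx⟩ : ∃ x, FreeGroup.lift v x = g := by
      obtain ⟨x, hx⟩ := PresentedGroup.mk_surjective (↑rels : Set (FreeGroup ι)) (e.symm g)
      exact ⟨x, by rw [lift_eq e he, hx, e.apply_symm_apply]⟩
    exact ⟨q (Θ x), (hΘv x).trans hx⟩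
  have hinj : Function.Injective φ := fun a b hab => by
    have := congrArg ψ hab
    rwa [← MonoidHom.comp_apply, ← MonoidHom.comp_apply, hleft] at this
  refine ⟨R, ?_, MulEquiv.ofBijective φ ⟨hinj, hsurj⟩, fun j => PresentedGroup.toGroup.of hrel⟩
  exact (Finset.card_union_le _ _).trans
    (add_le_add (Finset.card_image_le.trans hc) Finset.card_image_le)

/-- Any generating pair. -/
theorem pair {v : ι → G} {r : ℕ} (h : HasPres v r) {a b : G}
    (hab : Subgroup.closure ({a, b} : Set G) = ⊤) : HasPres ![a, b] (r + 2) := by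
  classical
  have hrg : Subgroup.closure (Set.range ![a, b]) = ⊤ := by
    rw [Matrix.range_cons_cons_empty]; exact hab
  have h1 : ∀ g, ∃ x, FreeGroup.lift ![a, b] x = g := fun g => by
    have : g ∈ (FreeGroup.lift ![a, b]).range := by
      rw [FreeGroup.range_lift_eq_closure, hrg]; exact Subgroup.mem_top g
    exact this
  have h2 : ∀ g, ∃ x, FreeGroup.lift v x = g := fun g => by
    have : g ∈ (FreeGroup.lift v).range := by
      rw [FreeGroup.range_lift_eq_closure, h.closure_eq_top]; exact Subgroup.mem_top g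
    exact this
  choose f hf using h1
  choose f' hf' using h2
  exact h.change ![a, b] Finset.univ (fun i => f (v i)) (fun i => hf _) (fun j => f' (![a, b] j))
    (fun j => hf' _) fun j hj => absurd (Finset.mem_univ j) hj

/-- Adding a third generator. -/
theorem three {v : Fin 2 → G} {r : ℕ} (h : HasPres v r) : ∃ w : Fin 3 → G, HasPres w (r + 1) := by
  refine ⟨![v 0, v 1, 1], h.change _ {2} ![FreeGroup.of 0, FreeGroup.of 1] (fun i => ?_)
    ![FreeGroup.of 0, FreeGroup.of 1, 1] (fun j => ?_) (fun j hj => ?_)⟩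
  · fin_cases i <;> simp
  · fin_cases j <;> simp
  · fin_cases j
    · simp
    · simp
    · simp at hj

/-- Keeping the third of three generators and adding a mate for it. -/
theorem two_of_mate {v : Fin 3 → G} {r : ℕ} (h : HasPres v r) {g : G}
    (hg : Subgroup.closure ({v 2, g} : Set G) = ⊤) : HasPres ![v 2, g] (r + 1) := by
  classical
  have hrg : Subgroup.closure (Set.range ![v 2, g]) = ⊤ := by
    rw [Matrix.range_cons_cons_empty]; exact hg
  have h1 : ∀ x, ∃ y, FreeGroup.lift ![v 2, g] y = x := fun x => by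
    have : x ∈ (FreeGroup.lift ![v 2, g]).range := by
      rw [FreeGroup.range_lift_eq_closure, hrg]; exact Subgroup.mem_top x
    exact this
  obtain ⟨u, hu⟩ : ∃ x, FreeGroup.lift v x = g := by
    have : g ∈ (FreeGroup.lift v).range := by
      rw [FreeGroup.range_lift_eq_closure, h.closure_eq_top]; exact Subgroup.mem_top g
    exact this
  choose f hf using h1
  refine h.change ![v 2, g] {1} (Function.update (fun i => f (v i)) 2 (FreeGroup.of 0))
    (fun i => ?_) ![FreeGroup.of 2, u] (fun j => ?_) (fun j hj => ?_)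
  · rcases eq_or_ne i 2 with rfl | hi
    · simp
    · rw [Function.update_of_ne hi, hf]
  · fin_cases j <;> simp [hu]
  · fin_cases j
    · simp
    · simp at hj

end HasPres

/-- A group generated by `x` and `y` with a metacyclic normal form. -/
theorem hasPres_metacyclic {G : Type*} [Group G] [Finite G] (x y : G) (r s t : ℕ) (hr : 0 < r)
    (hs : 0 < s) (hx : x ^ r = 1) (hy : y ^ s = 1) (hxy : x * y * x⁻¹ = y ^ t)
    (hgen : Subgroup.closure ({x, y} : Set G) = ⊤) (hcard : Nat.card G = r * s) :
    HasPres ![x, y] 3 := by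
  classical
  let X : FreeGroup (Fin 2) := FreeGroup.of 0
  let Y : FreeGroup (Fin 2) := FreeGroup.of 1
  let R : Finset (FreeGroup (Fin 2)) := {X ^ r, Y ^ s, X * Y * X⁻¹ * (Y ^ t)⁻¹}
  have hrel : ∀ w ∈ (↑R : Set (FreeGroup (Fin 2))), FreeGroup.lift ![x, y] w = 1 := by
    intro w hw
    simp only [R, Finset.coe_insert, Finset.coe_singleton, Set.mem_insert_iff,
      Set.mem_singleton_iff] at hw
    rcases hw with rfl | rfl | rfl <;> simp [X, Y, hx, hy, hxy]
  set φ := PresentedGroup.toGroup hrel
  set q := PresentedGroup.mk (↑R : Set (FreeGroup (Fin 2)))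
  have hX : q X ^ r = 1 := by rw [← map_pow]; exact PresentedGroup.one_of_mem (by simp [R])
  have hY : q Y ^ s = 1 := by rw [← map_pow]; exact PresentedGroup.one_of_mem (by simp [R])
  have hXY : q X * q Y = q Y ^ t * q X := by
    have h : q (X * Y * X⁻¹ * (Y ^ t)⁻¹) = 1 := PresentedGroup.one_of_mem (by simp [R])
    rw [map_mul, map_inv, mul_inv_eq_one, map_mul, map_mul, map_inv, mul_inv_eq_iff_eq_mul,
      map_pow] at h
    exact h
  have hXpow : ∀ i j : ℕ, q X ^ i * q Y ^ j = q Y ^ (t ^ i * j) * q X ^ i := by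
    intro i
    induction i with
    | zero => intro j; simp
    | succ i ih =>
      intro j
      have h1 : SemiconjBy (q X) (q Y ^ j) ((q Y ^ t) ^ j) := (show SemiconjBy (q X) (q Y) (q Y ^ t)
        from hXY).pow_right j
      rw [pow_succ, mul_assoc, h1.eq, ← mul_assoc, ← pow_mul, ih, mul_assoc, ← pow_succ,
        pow_succ t, mul_assoc]
  let nf : Fin s × Fin r → PresentedGroup (↑R : Set (FreeGroup (Fin 2))) := fun c =>
    q Y ^ c.1.val * q X ^ c.2.val
  have hnf : ∀ a b : ℕ, ∃ c, nf c = q Y ^ a * q X ^ b := fun a b =>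
    ⟨(⟨a % s, Nat.mod_lt _ hs⟩, ⟨b % r, Nat.mod_lt _ hr⟩), by
      simp only [nf]; rw [← pow_eq_pow_mod _ hY, ← pow_eq_pow_mod _ hX]⟩
  have hsurj : Function.Surjective nf := by
    intro g
    have hg : g ∈ Subgroup.closure (Set.range (PresentedGroup.of (rels :=
        (↑R : Set (FreeGroup (Fin 2)))))) := by
      rw [PresentedGroup.closure_range_of]; exact Subgroup.mem_top g
    have hstep : ∀ (i : Fin 2) (e : ℕ) (a b : ℕ), ∃ c,
        nf c = q Y ^ a * q X ^ b * PresentedGroup.of i ^ e := by
      intro i e a b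
      fin_cases i
      · obtain ⟨c, hc⟩ := hnf a (b + e)
        exact ⟨c, by rw [hc, pow_add, ← mul_assoc]; rfl⟩
      · obtain ⟨c, hc⟩ := hnf (a + t ^ b * e) b
        exact ⟨c, by
          rw [hc, pow_add, mul_assoc, ← hXpow, ← mul_assoc]; rfl⟩
    induction hg using Subgroup.closure_induction_right with
    | one => exact (hnf 0 0).imp fun c hc => by rw [hc]; simp
    | mul_right g _ z hz ih =>
      obtain ⟨i, rfl⟩ := hz
      obtain ⟨c, rfl⟩ := ih
      obtain ⟨c', hc'⟩ := hstep i 1 c.1 c.2
      exact ⟨c', by rw [hc', pow_one]⟩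
    | mul_inv_cancel g _ z hz ih =>
      obtain ⟨i, rfl⟩ := hz
      obtain ⟨c, rfl⟩ := ih
      have hinv : ∃ e : ℕ, (PresentedGroup.of i : PresentedGroup (↑R : Set _))⁻¹ =
          PresentedGroup.of i ^ e := by
        fin_cases i
        · refine ⟨r - 1, ?_⟩
          show (q X)⁻¹ = q X ^ (r - 1)
          rw [inv_eq_iff_mul_eq_one, ← pow_succ', Nat.sub_add_cancel hr, hX]
        · refine ⟨s - 1, ?_⟩
          show (q Y)⁻¹ = q Y ^ (s - 1)
          rw [inv_eq_iff_mul_eq_one, ← pow_succ', Nat.sub_add_cancel hs, hY]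
      obtain ⟨e, he⟩ := hinv
      obtain ⟨c', hc'⟩ := hstep i e c.1 c.2
      exact ⟨c', by rw [hc', he]⟩
  have hφsurj : Function.Surjective φ := by
    rw [← MonoidHom.range_eq_top, ← top_le_iff, ← hgen, Subgroup.closure_le]
    rintro w (rfl | rfl)
    · exact ⟨q X, PresentedGroup.toGroup.of hrel⟩
    · exact ⟨q Y, PresentedGroup.toGroup.of hrel⟩
  have : Finite (PresentedGroup (↑R : Set (FreeGroup (Fin 2)))) := Finite.of_surjective nf hsurj
  have hle : Nat.card (PresentedGroup (↑R : Set (FreeGroup (Fin 2)))) ≤ Nat.card G := by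
    refine (Nat.card_le_card_of_surjective nf hsurj).trans ?_
    rw [Nat.card_prod, Nat.card_fin, Nat.card_fin, hcard, mul_comm]
  refine ⟨R, Finset.card_le_three, MulEquiv.ofBijective φ (hφsurj.bijective_of_nat_card_le hle),
    fun i => PresentedGroup.toGroup.of hrel⟩

end CfsgLib.SymPresent
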