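import Cfsg.Agent.Lib.SymPresent.Carmichael

/-!
Permutation toolkit for the presentations of symmetric and alternating groups.
-/

set_option autoImplicit false

namespace CfsgLib.SymPresent

open Equiv Equiv.Perm

variable {Ω : Type*} [DecidableEq Ω]

/-- The three-cycle `(i a b)`. -/
def tri (a b i : Ω) : Perm Ω := swap i a * swap a b

theorem conj_tri (τ : Perm Ω) (a b i : Ω) :
    τ * tri a b i * τ⁻¹ = tri (τ a) (τ b) (τ i) := by
  unfold tri
  rw [Equiv.swap_apply_apply, Equiv.swap_apply_apply]
  group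

theorem tri_inv {a b i : Ω} (ha : i ≠ a) (hb : i ≠ b) : (tri a b i)⁻¹ = tri b a i := by
  unfold tri
  rw [mul_inv_rev, swap_inv, swap_inv, swap_comm b a]
  calc swap a b * swap i a = swap a b * swap i a * (swap a b)⁻¹ * swap a b := by group
    _ = swap i b * swap a b := by
        rw [← Equiv.swap_apply_apply (swap a b) i a, swap_apply_left,
          swap_apply_of_ne_of_ne ha hb]

/-- Conjugating by a permutation fixing or swapping the two special points. -/
theorem conj_tri_mem {a b i : Ω} (τ : Perm Ω) (ha : i ≠ a) (hb : i ≠ b)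
    (hτ : (τ a = a ∧ τ b = b) ∨ (τ a = b ∧ τ b = a)) (H : Subgroup (Perm Ω)) :
    τ * tri a b i * τ⁻¹ ∈ H ↔ tri a b (τ i) ∈ H := by
  rw [conj_tri]
  rcases hτ with ⟨h1, h2⟩ | ⟨h1, h2⟩
  · rw [h1, h2]
  · rw [h1, h2, ← tri_inv, inv_mem_iff]
    · intro h
      exact hb (τ.injective (h.trans h2.symm))
    · intro h
      exact ha (τ.injective (h.trans h1.symm))

theorem tri_pair' {a b i j : Ω} (hab : a ≠ b) (_hia : i ≠ a) (hib : i ≠ b) (hja : j ≠ a)
    (hjb : j ≠ b) (hij : i ≠ j) : (tri a b i * tri a b j) ^ 2 = 1 := by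
  have h1 : swap a b * swap j a * swap a b = swap j b := by
    rw [show swap a b * swap j a * swap a b = swap a b * swap j a * (swap a b)⁻¹ by rw [swap_inv],
      ← Equiv.swap_apply_apply, swap_apply_left, swap_apply_of_ne_of_ne hja hjb]
  have h2 : swap i a * swap j b * swap i a = swap j b := by
    rw [show swap i a * swap j b * swap i a = swap i a * swap j b * (swap i a)⁻¹ by rw [swap_inv],
      ← Equiv.swap_apply_apply, swap_apply_of_ne_of_ne hij.symm hja,
      swap_apply_of_ne_of_ne hib.symm hab.symm]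
  have h : tri a b i * tri a b j = swap i a * swap j b := by
    rw [tri, tri, ← h1]
    simp only [mul_assoc]
  rw [h, sq, show swap i a * swap j b * (swap i a * swap j b) =
    swap i a * swap j b * swap i a * swap j b by simp only [mul_assoc], h2, swap_mul_self]

variable [Fintype Ω]

theorem sign_tri {a b i : Ω} (hab : a ≠ b) (ha : i ≠ a) : sign (tri a b i) = 1 := by
  rw [tri, map_mul, sign_swap ha, sign_swap hab]
  rfl

theorem tri_cube {a b i : Ω} (hab : a ≠ b) (ha : i ≠ a) (hb : i ≠ b) : tri a b i ^ 3 = 1 := by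
  have h : (tri a b i).IsThreeCycle :=
    by
    rw [show tri a b i = swap a i * swap a b by rw [tri, swap_comm]]
    exact Equiv.Perm.isThreeCycle_swap_mul_swap_same ha.symm hab hb
  rw [← h.orderOf, pow_orderOf_eq_one]

/-- The three-cycles through two fixed points generate the alternating group. -/
theorem closure_tri (a b : Ω) (hab : a ≠ b) :
    Subgroup.closure {g | ∃ i, i ≠ a ∧ i ≠ b ∧ tri a b i = g} = alternatingGroup Ω := by
  set H := Subgroup.closure {g | ∃ i, i ≠ a ∧ i ≠ b ∧ tri a b i = g} with hH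
  refine le_antisymm ?_ fun g hg => ?_
  · rw [hH, Subgroup.closure_le]
    rintro g ⟨i, ha, hb, rfl⟩
    exact Equiv.Perm.mem_alternatingGroup.2 (sign_tri hab ha)
  have hb0 : ∀ u, u ≠ a → swap a u * swap a b ∈ H := fun u hu => by
    rcases eq_or_ne u b with rfl | hub
    · rw [swap_mul_self]; exact H.one_mem
    · refine Subgroup.subset_closure ⟨u, hu, hub, ?_⟩
      rw [tri, swap_comm u a]
  have hpair : ∀ u v, u ≠ a → v ≠ a → swap a u * swap a v ∈ H := fun u v hu hv => by
    have h := H.mul_mem (hb0 u hu) (H.inv_mem (hb0 v hv))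
    rwa [mul_inv_rev, swap_inv, swap_inv, mul_assoc, swap_mul_self_mul] at h
  have key : ∀ g : Perm Ω, (sign g = 1 → g ∈ H) ∧ (sign g = -1 → g * swap a b ∈ H) := by
    intro g
    have hg : g ∈ Subgroup.closure {s : Perm Ω | ∃ u, u ≠ a ∧ swap a u = s} := by
      have htop : (⊤ : Subgroup (Perm Ω)) ≤
          Subgroup.closure {s : Perm Ω | ∃ u, u ≠ a ∧ swap a u = s} := by
        rw [← Equiv.Perm.closure_isSwap, Subgroup.closure_le]
        rintro s ⟨u, v, huv, rfl⟩
        have hm : ∀ w, w ≠ a → swap a w ∈ Subgroup.closure {s : Perm Ω | ∃ u, u ≠ a ∧ swap a u = s} :=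
          fun w hw => Subgroup.subset_closure ⟨w, hw, rfl⟩
        rcases eq_or_ne u a with rfl | hu
        · exact hm v huv.symm
        rcases eq_or_ne v a with rfl | hv
        · rw [swap_comm]; exact hm u hu
        rw [show swap u v = swap a u * swap a v * swap a u by
          conv_rhs => rw [← Equiv.swap_inv a u, ← swap_inv a u, mul_assoc]
          rw [show swap u v = swap (swap a u a) (swap a u v) by
            rw [swap_apply_left, swap_apply_of_ne_of_ne hv huv.symm], Equiv.swap_apply_apply]
          simp [mul_assoc]]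
        exact mul_mem (mul_mem (hm u hu) (hm v hv)) (hm u hu)
      exact htop (Subgroup.mem_top g)
    induction hg using Subgroup.closure_induction_right with
    | one => exact ⟨fun _ => H.one_mem, fun h => by simp at h⟩
    | mul_right g _ z hz ihg =>
      obtain ⟨u, hu, rfl⟩ := hz
      have hs : sign (swap a u) = -1 := sign_swap hu.symm
      refine ⟨fun h => ?_, fun h => ?_⟩
      · rw [map_mul, hs, mul_neg_one, neg_eq_iff_eq_neg] at h
        have := H.mul_mem (ihg.2 h) (H.inv_mem (hb0 u hu))
        rwa [mul_inv_rev, swap_inv, swap_inv, mul_assoc, swap_mul_self_mul] at this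
      · rw [map_mul, hs, mul_neg_one, neg_inj] at h
        rw [mul_assoc]
        exact H.mul_mem (ihg.1 h) (hb0 u hu)
    | mul_inv_cancel g _ z hz ihg =>
      obtain ⟨u, hu, rfl⟩ := hz
      rw [swap_inv]
      have hs : sign (swap a u) = -1 := sign_swap hu.symm
      refine ⟨fun h => ?_, fun h => ?_⟩
      · rw [map_mul, hs, mul_neg_one, neg_eq_iff_eq_neg] at h
        have := H.mul_mem (ihg.2 h) (H.inv_mem (hb0 u hu))
        rwa [mul_inv_rev, swap_inv, swap_inv, mul_assoc, swap_mul_self_mul] at this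
      · rw [map_mul, hs, mul_neg_one, neg_inj] at h
        rw [mul_assoc]
        exact H.mul_mem (ihg.1 h) (hb0 u hu)
  exact (key g).1 (Equiv.Perm.mem_alternatingGroup.1 hg)

theorem two_mul_card_alt [Nontrivial Ω] :
    2 * Nat.card (alternatingGroup Ω) = (Fintype.card Ω).factorial := by
  rw [Nat.card_eq_fintype_card, two_mul_card_alternatingGroup, Fintype.card_perm]

omit [DecidableEq Ω] [Fintype Ω] in
open Fin.NatCast in
/-- A transitive permutation supported on a given finite set. -/
theorem exists_cyc [DecidableEq Ω] [Fintype Ω] (s : Finset Ω) (hs : s.Nonempty) :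
    ∃ f : Perm Ω, (∀ x, x ∉ s → f x = x) ∧ (∀ x ∈ s, f x ∈ s) ∧
      (∀ x ∈ s, ∀ y ∈ s, ∃ r : ℕ, (f ^ r) x = y) ∧ sign f = (-1) ^ (s.card - 1) ∧
      f ^ s.card = 1 := by
  obtain ⟨m, hm⟩ : ∃ m, s.card = m + 1 := ⟨s.card - 1, by have := hs.card_pos; omega⟩
  let e : Fin (m + 1) ≃ {x // x ∈ s} := (Fintype.equivFinOfCardEq (by simpa using hm)).symm
  let c : Perm {x // x ∈ s} := e.permCongr (finRotate (m + 1))
  have hcomp : ∀ r : ℕ, (Perm.ofSubtype c) ^ r = Perm.ofSubtype (c ^ r) := fun r =>
    (map_pow _ _ _).symm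
  have hrot : ∀ (r : ℕ) (i : Fin (m + 1)), (finRotate (m + 1) ^ r) i = i + (r : Fin (m + 1)) := by
    intro r i
    induction r with
    | zero => simp
    | succ r ih => rw [pow_succ', Perm.mul_apply, ih, finRotate_apply, Nat.cast_succ, add_assoc]
  have hcr : ∀ r : ℕ, c ^ r = e.permCongr (finRotate (m + 1) ^ r) := fun r =>
    (map_pow e.permCongrHom _ r).symm
  refine ⟨Perm.ofSubtype c, fun x hx => Perm.ofSubtype_apply_of_not_mem c hx, fun x hx => ?_,
    fun x hx y hy => ?_, ?_, ?_⟩
  · rw [Perm.ofSubtype_apply_of_mem c hx]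
    exact Subtype.coe_prop _
  · refine ⟨(e.symm ⟨y, hy⟩ - e.symm ⟨x, hx⟩ : Fin (m + 1)).val, ?_⟩
    rw [hcomp, Perm.ofSubtype_apply_of_mem _ hx, hcr, Equiv.permCongr_apply, hrot,
      Fin.cast_val_eq_self, add_sub_cancel, Equiv.apply_symm_apply]
  · rw [Perm.sign_ofSubtype, Equiv.Perm.sign_permCongr, sign_finRotate, hm, Nat.add_sub_cancel]
  · rw [hcomp, hcr, hm, show finRotate (m + 1) ^ (m + 1) = 1 by
      ext i; rw [hrot]; simp]
    rw [show e.permCongr 1 = 1 from map_one e.permCongrHom, map_one]

omit [DecidableEq Ω] [Fintype Ω] in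
/-- A homomorphism taking Carmichael generators to the three-cycles is injective on what they
generate. -/
theorem injOn_of_carm [DecidableEq Ω] [Fintype Ω] {Γ : Type*} [Group Γ] {G : Type*} [Group G]
    {α : Type*} [Fintype α] {x : α → G} (h : Carm x) (π : G →* Γ) (j : Perm Ω →* Γ)
    (hj : Function.Injective j) {a b : Ω} (hab : a ≠ b) (e : α → Ω) (hea : ∀ i, e i ≠ a)
    (heb : ∀ i, e i ≠ b) (he : Function.Injective e)
    (hsurj : ∀ u, u ≠ a → u ≠ b → ∃ i, e i = u) (hπ : ∀ i, π (x i) = j (tri a b (e i))) :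
    Set.InjOn π (Subgroup.closure (Set.range x) : Set G) ∧
      (Subgroup.closure (Set.range x)).map π = (alternatingGroup Ω).map j ∧
      2 * Nat.card (Subgroup.closure (Set.range x)) = (Fintype.card Ω).factorial := by
  classical
  obtain ⟨hfin, hbound⟩ := h.bound_univ
  have hcard : Fintype.card α + 2 = Fintype.card Ω := by
    have h1 : Finset.univ = insert a (insert b (Finset.univ.image e)) := by
      ext u
      simp only [Finset.mem_univ, Finset.mem_insert, Finset.mem_image, true_and, true_iff]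
      by_cases hua : u = a
      · exact Or.inl hua
      by_cases hub : u = b
      · exact Or.inr (Or.inl hub)
      exact Or.inr (Or.inr (hsurj u hua hub))
    rw [← Finset.card_univ (α := Ω), h1, Finset.card_insert_of_notMem, Finset.card_insert_of_notMem,
      Finset.card_image_of_injective _ he, Finset.card_univ]
    · simpa using heb
    · simp only [Finset.mem_insert, Finset.mem_image, Finset.mem_univ, true_and, not_or, not_exists]
      exact ⟨hab, hea⟩
  have hmap : (Subgroup.closure (Set.range x)).map π = (alternatingGroup Ω).map j := by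
    rw [← closure_tri a b hab, MonoidHom.map_closure, MonoidHom.map_closure]
    congr 1
    ext g
    simp only [Set.mem_image, Set.mem_range, Set.mem_ofPred_eq]
    constructor
    · rintro ⟨_, ⟨i, rfl⟩, rfl⟩
      exact ⟨_, ⟨e i, hea i, heb i, rfl⟩, (hπ i).symm⟩
    · rintro ⟨_, ⟨u, ha, hb, rfl⟩, rfl⟩
      obtain ⟨i, rfl⟩ := hsurj u ha hb
      exact ⟨_, ⟨i, rfl⟩, hπ i⟩
  have : Nontrivial Ω := ⟨⟨a, b, hab⟩⟩
  have himg : 2 * Nat.card ((Subgroup.closure (Set.range x)).map π) =
      (Fintype.card Ω).factorial := by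
    rw [hmap, Subgroup.card_map_of_injective hj, two_mul_card_alt]
  set K := Subgroup.closure (Set.range x)
  have hle : Nat.card (K.map π) ≤ Nat.card K :=
    Nat.card_le_card_of_surjective _ (π.subgroupMap_surjective K)
  rw [hcard] at hbound
  have heq : Nat.card K = Nat.card (K.map π) := by omega
  refine ⟨?_, hmap, by omega⟩
  have : Finite K := hfin
  have : Finite (K.map π) := Finite.of_surjective _ (π.subgroupMap_surjective K)
  have hinj := ((π.subgroupMap_surjective K).bijective_of_nat_card_le heq.le).injective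
  intro u hu v hv huv
  exact Subtype.ext_iff.1 (@hinj ⟨u, hu⟩ ⟨v, hv⟩ (Subtype.ext huv))

end CfsgLib.SymPresent
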