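import Cfsg.Agent.Lib.SymPresent.Perms
import Cfsg.Agent.Lib.SymPresent.Tietze

/-!
Presentations of `S_n` and `A_n` for `n = m + 2` with `m` even and small, on the translation of
`ZMod m` and one three-cycle.
-/

set_option autoImplicit false

namespace CfsgLib.SymPresent

open Equiv Equiv.Perm

namespace Small

variable {G : Type*} [Group G]

/-- `x` or its inverse, according to the parity. -/
def sgn (alt : Bool) (x : G) (i : ℕ) : G := if alt = true ∧ i % 2 = 1 then x⁻¹ else x

/-- The translates. -/
def ys (alt : Bool) (a x : G) (i : ℕ) : G := a ^ i * sgn alt x i * (a ^ i)⁻¹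

theorem sq_inv_inv {u v : G} (h : (u * v) ^ 2 = 1) : (u⁻¹ * v⁻¹) ^ 2 = 1 ∧ (v * u) ^ 2 = 1 := by
  have h2 : (v * u) ^ 2 = 1 := by
    rw [show v * u = MulAut.conj v (u * v) by rw [MulAut.conj_apply]; group, ← map_pow, h, map_one]
  exact ⟨by rw [← mul_inv_rev, inv_pow, h2, inv_one], h2⟩

theorem conj_ys (alt : Bool) (a x : G) (i : ℕ) :
    a * ys alt a x i * a⁻¹ = if alt then (ys alt a x (i + 1))⁻¹ else ys alt a x (i + 1) := by
  cases alt
  · simp [ys, sgn, pow_succ', mul_assoc]
  · rcases Nat.mod_two_eq_zero_or_one i with h | h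
    · have h1 : (i + 1) % 2 = 1 := by omega
      simp [ys, sgn, h, h1, pow_succ', mul_assoc]
    · have h1 : (i + 1) % 2 = 0 := by omega
      simp [ys, sgn, h, h1, pow_succ', mul_assoc]

theorem shift_pair {alt : Bool} {a x : G} {d : ℕ} (h : (ys alt a x 0 * ys alt a x d) ^ 2 = 1) :
    ∀ i, (ys alt a x i * ys alt a x (i + d)) ^ 2 = 1 := by
  intro i
  induction i with
  | zero => rwa [Nat.zero_add]
  | succ i ih =>
    have h2 : MulAut.conj a ((ys alt a x i * ys alt a x (i + d)) ^ 2) = 1 := by rw [ih, map_one]
    rw [map_pow, map_mul, MulAut.conj_apply, MulAut.conj_apply, conj_ys, conj_ys] at h2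
    cases alt
    · simpa [Nat.add_right_comm] using h2
    · have := (sq_inv_inv h2).1
      simpa [Nat.add_right_comm] using this

theorem ys_periodic {alt : Bool} {a x : G} {m : ℕ} (hm : m % 2 = 0) (hcomm : Commute (a ^ m) x)
    (i : ℕ) : ys alt a x (i + m) = ys alt a x i := by
  have hs : sgn alt x (i + m) = sgn alt x i := by
    unfold sgn
    rw [show (i + m) % 2 = i % 2 by omega]
  have hc : Commute (a ^ m) (sgn alt x i) := by
    unfold sgn; split_ifs
    · exact hcomm.inv_right
    · exact hcomm
  unfold ys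
  rw [hs, pow_add, mul_assoc _ (a ^ m), hc.eq]
  group

theorem carm {alt : Bool} {a x : G} {h : ℕ} (hx : x ^ 3 = 1)
    (hcomm : Commute (a ^ (2 * h)) x)
    (hp : ∀ d, 1 ≤ d → d ≤ h → (ys alt a x 0 * ys alt a x d) ^ 2 = 1) :
    Carm fun i : Fin (2 * h) => ys alt a x i.val := by
  refine ⟨fun i => ?_, fun i j hij => ?_⟩
  · show (a ^ i.val * _ * (a ^ i.val)⁻¹) ^ 3 = 1
    rw [← MulAut.conj_apply, ← map_pow]
    have : sgn alt x i.val ^ 3 = 1 := by unfold sgn; split_ifs <;> simp [hx]
    rw [this, map_one]
  · have key : ∀ u v : ℕ, u < v → v < 2 * h → (ys alt a x u * ys alt a x v) ^ 2 = 1 := by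
      intro u v huv hv
      rcases Nat.lt_or_ge h (v - u) with hd | hd
      · have h1 := shift_pair (hp (u + 2 * h - v) (by omega) (by omega)) v
        rw [show v + (u + 2 * h - v) = u + 2 * h by omega, ys_periodic (by omega) hcomm] at h1
        exact (sq_inv_inv h1).2
      · have h1 := shift_pair (hp (v - u) (by omega) hd) u
        rwa [show u + (v - u) = v by omega] at h1
    rcases Nat.lt_or_ge i.val j.val with hl | hl
    · exact key _ _ hl j.isLt
    · exact (sq_inv_inv (key _ _ (lt_of_le_of_ne hl fun e => hij (Fin.ext e.symm)) i.isLt)).2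

end Small

/-- The points `Fin m` and two more. -/
abbrev SPt (m : ℕ) := Fin m ⊕ Bool

/-- The translation used for small degrees. -/
def smallA (alt : Bool) (m : ℕ) : Perm (SPt m) :=
  Equiv.sumCongr (finRotate m) (if alt then swap false true else 1)

/-- The three-cycle used for small degrees. -/
def smallX (m : ℕ) [NeZero m] : Perm (SPt m) := tri (Sum.inr false) (Sum.inr true) (Sum.inl 0)

/-- Presentations in small even degree: `h + 3` relations on two generators. -/
theorem small_presentation (alt : Bool) (h : ℕ) [NeZero (2 * h)] (hh : 0 < h) :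
    ∃ e : Subgroup (Perm (SPt (2 * h))),
      (e = if alt then alternatingGroup (SPt (2 * h)) else ⊤) ∧
      ∃ v : Fin 2 → e, HasPres v (h + 3) := by
  classical
  obtain ⟨n, hn⟩ : ∃ n, 2 * h = n + 1 := ⟨2 * h - 1, by omega⟩
  set m := 2 * h with hm
  set ā := smallA alt m with hā
  set X := smallX m with hX
  have hrot : ∀ (i : ℕ), i < m → ((finRotate m) ^ i) (0 : Fin m) = ⟨i % m, Nat.mod_lt _ (by omega)⟩ := by
    intro i hi
    induction i with
    | zero => exact Fin.ext (by simp)
    | succ i ih =>
      rw [pow_succ', Perm.mul_apply, ih (by omega)]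
      apply Fin.ext
      rw [finRotate_apply, Fin.val_add, Fin.val_one']
      simp
  have hāpow : ∀ i : ℕ, ā ^ i = Equiv.sumCongr ((finRotate m) ^ i)
      ((if alt then swap false true else 1) ^ i) := by
    intro i
    induction i with
    | zero => ext u; rcases u with u | u <;> rfl
    | succ i ih =>
      rw [pow_succ, ih, pow_succ, pow_succ]
      ext u
      rcases u with u | u <;> rfl
  have hys : ∀ i : Fin m, Small.ys alt ā X i.val =
      tri (Sum.inr false) (Sum.inr true) (Sum.inl i) := by
    intro i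
    have hi : ((finRotate m) ^ i.val) (0 : Fin m) = i := by
      rw [hrot _ i.isLt]; exact Fin.ext (Nat.mod_eq_of_lt i.isLt)
    have hinl : (ā ^ i.val) (Sum.inl 0) = Sum.inl i := by
      rw [hāpow]; exact congrArg Sum.inl hi
    unfold Small.ys Small.sgn
    cases alt with
    | false =>
      have hinf : ∀ t, (ā ^ i.val) (Sum.inr t) = Sum.inr t := fun t => by
        rw [hāpow]; simp
      rw [if_neg (by simp), hX, smallX, conj_tri, hinl, hinf, hinf]
    | true =>
      rcases Nat.mod_two_eq_zero_or_one i.val with hp | hp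
      · obtain ⟨q, hq⟩ : ∃ q, i.val = 2 * q := ⟨i.val / 2, by omega⟩
        have hinf : ∀ t, (ā ^ i.val) (Sum.inr t) = Sum.inr t := fun t => by
          rw [hāpow, hq, pow_mul (if true = true then swap false true else 1 : Perm Bool)]; simp [sq]
        rw [if_neg (by simp [hp]), hX, smallX, conj_tri, hinl, hinf, hinf]
      · obtain ⟨q, hq⟩ : ∃ q, i.val = 2 * q + 1 := ⟨i.val / 2, by omega⟩
        have hinf : ∀ t, (ā ^ i.val) (Sum.inr t) = Sum.inr (swap false true t) := fun t => by
          rw [hāpow, hq, pow_succ (if true = true then swap false true else 1 : Perm Bool),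
            pow_mul (if true = true then swap false true else 1 : Perm Bool)]
          simp [sq]
        rw [if_pos ⟨rfl, hp⟩, hX, smallX, tri_inv (by simp) (by simp), conj_tri, hinl, hinf, hinf]
        simp
  have hsX : sign X = 1 := sign_tri (by simp) (by simp)
  have hsA : sign ā = if alt then 1 else -1 := by
    show sign (Equiv.Perm.sumCongr _ _) = _
    have hr : sign (finRotate m) = -1 := by
      rw [hn, sign_finRotate]
      exact Odd.neg_one_pow ⟨h - 1, by omega⟩
    rw [Equiv.Perm.sign_sumCongr, hr]
    cases alt <;> simp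
  set e : ℕ := if alt then 1 else 2 with he
  have he2 : sign (ā ^ e) = 1 := by
    rw [map_pow, hsA, he]
    cases alt <;> simp
  have hgen : Subgroup.closure (Set.range fun i : Fin m => Small.ys alt ā X i.val) =
      alternatingGroup (SPt m) := by
    rw [← closure_tri (Sum.inr false) (Sum.inr true) (by simp)]
    congr 1
    ext g
    simp only [Set.mem_range, Set.mem_ofPred_eq, hys]
    constructor
    · rintro ⟨i, rfl⟩; exact ⟨Sum.inl i, by simp, by simp, rfl⟩
    · rintro ⟨u, h1, h2, rfl⟩
      rcases u with i | t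
      · exact ⟨i, rfl⟩
      · cases t <;> simp at h1 h2
  set A : FreeGroup (Fin 2) := FreeGroup.of 0
  set B : FreeGroup (Fin 2) := FreeGroup.of 1
  set φ := FreeGroup.lift ![ā, X]
  have hφA : φ A = ā := by simp [φ, A]
  have hφB : φ B = X := by simp [φ, B]
  have hφys : ∀ (H : Type) [Group H] (f : FreeGroup (Fin 2) →* H) (i : ℕ),
      f (Small.ys alt A B i) = Small.ys alt (f A) (f B) i := by
    intro H _ f i
    simp only [Small.ys, Small.sgn, map_mul, map_inv, map_pow]
    split_ifs <;> simp
  obtain ⟨W, hWm, hW⟩ : ∃ W ∈ Subgroup.closure (Set.range fun i : Fin m => Small.ys alt A B i.val),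
      φ W = ā ^ e := by
    have : ā ^ e ∈ (Subgroup.closure (Set.range fun i : Fin m => Small.ys alt A B i.val)).map φ := by
      rw [MonoidHom.map_closure, ← Set.range_comp]
      simp only [Function.comp_def, hφys, hφA, hφB]
      rw [hgen]
      exact Equiv.Perm.mem_alternatingGroup.2 he2
    exact Subgroup.mem_map.1 this
  let L : List (FreeGroup (Fin 2)) :=
    [B ^ 3, A ^ m * B * (A ^ m)⁻¹ * B⁻¹, A ^ e * W⁻¹] ++
      (List.range h).map fun d => (Small.ys alt A B 0 * Small.ys alt A B (d + 1)) ^ 2
  have hrel : ∀ r ∈ L, φ r = 1 := by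
    intro r hr
    simp only [L, List.mem_append, List.mem_cons, List.not_mem_nil, or_false, List.mem_map,
      List.mem_range] at hr
    rcases hr with (rfl | rfl | rfl) | ⟨d, hd, rfl⟩
    · rw [map_pow, hφB, hX, smallX, tri_cube (by simp) (by simp) (by simp)]
    · have hone : ā ^ m = 1 := by
        rw [hāpow]
        have h1 : (finRotate m) ^ m = 1 := by
          ext i
          have hadd : ∀ r : ℕ, (((finRotate m) ^ r) i).val = (i.val + r) % m := by
            intro r
            induction r with
            | zero => simp [Nat.mod_eq_of_lt i.isLt]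
            | succ r ih =>
              rw [pow_succ', Perm.mul_apply, finRotate_apply, Fin.val_add, ih, Fin.val_one']
              simp [Nat.add_assoc]
          rw [hadd]; simp [Nat.mod_eq_of_lt i.isLt]
        rw [h1, hm, pow_mul]
        cases alt <;> simp [sq]
      rw [map_mul, map_mul, map_mul, map_inv, map_inv, map_pow, hφA, hφB, hone]
      group
    · rw [map_mul, map_inv, map_pow, hφA, hW, mul_inv_cancel]
    · rw [map_pow, map_mul, hφys, hφys, hφA, hφB,
        show Small.ys alt ā X 0 = _ from hys ⟨0, by omega⟩,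
        show Small.ys alt ā X (d + 1) = _ from hys ⟨d + 1, by omega⟩]
      exact tri_pair' (by simp) (by simp) (by simp) (by simp) (by simp)
        (by simp [Fin.ext_iff])
  have hrels : ∀ r ∈ (↑L.toFinset : Set (FreeGroup (Fin 2))), φ r = 1 :=
    fun r hr => hrel r (List.mem_toFinset.1 hr)
  set π := PresentedGroup.toGroup hrels
  set q := PresentedGroup.mk (↑L.toFinset : Set (FreeGroup (Fin 2)))
  have hone : ∀ r ∈ L, q r = 1 := fun r hr =>
    PresentedGroup.one_of_mem (Finset.mem_coe.2 (List.mem_toFinset.2 hr))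
  have hcube : q B ^ 3 = 1 := by rw [← map_pow]; exact hone _ (by simp [L])
  have hcomm : Commute (q A ^ m) (q B) := by
    have := hone (A ^ m * B * (A ^ m)⁻¹ * B⁻¹) (by simp [L])
    simp only [map_mul, map_inv, map_pow, mul_inv_eq_iff_eq_mul] at this
    exact this
  have hpow : q A ^ e = q W := by
    have := hone (A ^ e * W⁻¹) (by simp [L])
    rwa [map_mul, map_inv, map_pow, mul_inv_eq_one] at this
  have hC : Carm fun i : Fin m => Small.ys alt (q A) (q B) i.val := by
    refine Small.carm hcube hcomm fun d h1 h2 => ?_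
    have := hone ((Small.ys alt A B 0 * Small.ys alt A B (d - 1 + 1)) ^ 2) (by
      simp only [L, List.mem_append, List.mem_map, List.mem_range]
      exact Or.inr ⟨d - 1, by omega, rfl⟩)
    rw [map_pow, map_mul, hφys, hφys, Nat.sub_add_cancel h1] at this
    exact this
  set N := Subgroup.closure (Set.range fun i : Fin m => Small.ys alt (q A) (q B) i.val)
  obtain ⟨hinjN, hmap, hcard⟩ := injOn_of_carm hC π (MonoidHom.id _) Function.injective_id
    (a := (Sum.inr false : SPt m)) (b := Sum.inr true) (by simp) Sum.inl (by simp) (by simp)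
    Sum.inl_injective
    (by rintro (u | u) h1 h2
        · exact ⟨u, rfl⟩
        · cases u <;> simp at h1 h2)
    (fun i => by
      rw [← hφys, MonoidHom.id_apply]
      show φ (Small.ys alt A B i.val) = _
      rw [hφys, hφA, hφB, hys])
  rw [Subgroup.map_id] at hmap
  have : Finite N := hC.bound_univ.1
  have hyN : ∀ i, Small.ys alt (q A) (q B) i ∈ N := by
    intro i
    induction i using Nat.strong_induction_on with
    | _ i ih =>
      rcases Nat.lt_or_ge i m with hi | hi
      · exact Subgroup.subset_closure ⟨⟨i, hi⟩, rfl⟩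
      · rw [show i = i - m + m by omega, Small.ys_periodic (by omega) hcomm]
        exact ih _ (by omega)
  have haN : ∀ y ∈ N, q A * y * (q A)⁻¹ ∈ N := by
    intro y hy
    have hle : N ≤ N.comap (MulAut.conj (q A)).toMonoidHom := (Subgroup.closure_le _).2 (by
      rintro _ ⟨i, rfl⟩
      show q A * _ * (q A)⁻¹ ∈ N
      rw [Small.conj_ys]
      split_ifs
      exacts [N.inv_mem (hyN _), hyN _])
    exact hle hy
  have hWN : q W ∈ N := by
    have := Subgroup.mem_map_of_mem q hWm
    rw [MonoidHom.map_closure, ← Set.range_comp] at this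
    simpa only [Function.comp_def, hφys] using this
  have hainv : ∀ y ∈ N, (q A)⁻¹ * y * (q A)⁻¹⁻¹ ∈ N := by
    have hfs : Function.Surjective fun y : N => (⟨_, haN y.1 y.2⟩ : N) := by
      refine Finite.injective_iff_surjective.1 fun u v huv => Subtype.ext ?_
      simpa using congrArg Subtype.val huv
    intro y hy
    obtain ⟨y', hy'⟩ := hfs ⟨y, hy⟩
    have h2 : q A * y'.1 * (q A)⁻¹ = y := congrArg Subtype.val hy'
    rw [← h2, show (q A)⁻¹ * (q A * y'.1 * (q A)⁻¹) * (q A)⁻¹⁻¹ = y'.1 by group]
    exact y'.2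
  have htop : Subgroup.closure ({q A, q B} : Set _) = ⊤ := by
    rw [← top_le_iff, ← PresentedGroup.closure_range_of, Subgroup.closure_le]
    rintro _ ⟨i, rfl⟩
    refine Subgroup.subset_closure ?_
    fin_cases i
    exacts [Or.inl rfl, Or.inr rfl]
  have hBN : q B ∈ N := by
    have := hyN 0
    simpa [Small.ys, Small.sgn] using this
  have hcov : ∀ g, ∃ j, j < e ∧ (q A ^ j)⁻¹ * g ∈ N := by
    have he0 : 0 < e := by rw [he]; split_ifs <;> norm_num
    have hNn : ∀ y ∈ N, ∀ j, (q A ^ j)⁻¹ * y * q A ^ j ∈ N := by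
      intro y hy j
      induction j with
      | zero => simpa using hy
      | succ j ih =>
        have := hainv _ ih
        rwa [show (q A)⁻¹ * ((q A ^ j)⁻¹ * y * q A ^ j) * (q A)⁻¹⁻¹ =
          (q A ^ (j + 1))⁻¹ * y * q A ^ (j + 1) by rw [pow_succ]; group] at this
    have hAstep : ∀ j, j < e → ∀ y ∈ N, ∃ j', j' < e ∧ (q A ^ j')⁻¹ * (q A ^ j * y * q A) ∈ N := by
      intro j hj y hy
      have hy1 : (q A)⁻¹ * y * q A ∈ N := by simpa using hNn y hy 1
      rcases Nat.lt_or_ge (j + 1) e with h1 | h1
      · refine ⟨j + 1, h1, ?_⟩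
        rwa [show (q A ^ (j + 1))⁻¹ * (q A ^ j * y * q A) = (q A)⁻¹ * y * q A by
          rw [pow_succ]; group]
      · refine ⟨0, he0, ?_⟩
        rw [pow_zero, inv_one, one_mul, show q A ^ j * y * q A =
          q A ^ (j + 1) * ((q A)⁻¹ * y * q A) by rw [pow_succ]; group,
          show j + 1 = e by omega, hpow]
        exact N.mul_mem hWN hy1
    intro g
    have hg : g ∈ Subgroup.closure ({q A, q B} : Set _) := htop ▸ Subgroup.mem_top g
    induction hg using Subgroup.closure_induction_right with
    | one => exact ⟨0, he0, by simp⟩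
    | mul_right g _ z hz ih =>
      obtain ⟨j, hj, hgj⟩ := ih
      rcases hz with rfl | rfl
      · obtain ⟨j', hj', h'⟩ := hAstep j hj _ hgj
        exact ⟨j', hj', by rwa [mul_inv_cancel_left] at h'⟩
      · exact ⟨j, hj, by rw [← mul_assoc]; exact N.mul_mem hgj hBN⟩
    | mul_inv_cancel g _ z hz ih =>
      obtain ⟨j, hj, hgj⟩ := ih
      rcases hz with rfl | rfl
      · -- `a⁻¹ = a^(e-1) W⁻¹`
        have hinv : (q A)⁻¹ = q A ^ (e - 1) * (q W)⁻¹ := by
          rw [inv_eq_iff_mul_eq_one, ← mul_assoc, ← pow_succ', Nat.sub_add_cancel he0, hpow,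
            mul_inv_cancel]
        have hrep : ∀ r, ∃ j', j' < e ∧ (q A ^ j')⁻¹ * (g * q A ^ r) ∈ N := by
          intro r
          induction r with
          | zero => exact ⟨j, hj, by simpa using hgj⟩
          | succ r ih' =>
            obtain ⟨j1, hj1, h1⟩ := ih'
            obtain ⟨j', hj', h'⟩ := hAstep j1 hj1 _ h1
            exact ⟨j', hj', by
              rw [mul_inv_cancel_left] at h'
              rwa [pow_succ, ← mul_assoc g]⟩
        obtain ⟨j', hj', h'⟩ := hrep (e - 1)
        refine ⟨j', hj', ?_⟩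
        rw [hinv, ← mul_assoc g, ← mul_assoc]
        exact N.mul_mem h' (N.inv_mem hWN)
      · exact ⟨j, hj, by rw [← mul_assoc]; exact N.mul_mem hgj (N.inv_mem hBN)⟩
  let K : Subgroup (Perm (SPt m)) := if alt then alternatingGroup (SPt m) else ⊤
  have hrange : π.range = K := by
    have hle : alternatingGroup (SPt m) ≤ π.range := hmap ▸ Subgroup.map_le_range π N
    simp only [K]
    cases alt with
    | true =>
      refine le_antisymm ?_ hle
      rw [MonoidHom.range_eq_map, ← htop, MonoidHom.map_closure, Subgroup.closure_le]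
      rintro _ ⟨z, hz, rfl⟩
      rw [SetLike.mem_coe, if_pos rfl, Equiv.Perm.mem_alternatingGroup]
      rcases hz with rfl | rfl
      · show sign (φ A) = 1
        rw [hφA, hsA]; rfl
      · show sign (φ B) = 1
        rw [hφB, hsX]
    | false =>
      refine top_le_iff.1 fun f _ => ?_
      rcases Int.units_eq_one_or (sign f) with h1 | h1
      · exact hle (Equiv.Perm.mem_alternatingGroup.2 h1)
      · have hm1 : f * ā ∈ π.range := hle (Equiv.Perm.mem_alternatingGroup.2 (by
          rw [map_mul, h1, hsA]; rfl))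
        have hAr : ā ∈ π.range := ⟨q A, hφA⟩
        simpa using π.range.mul_mem hm1 (π.range.inv_mem hAr)
  have hGle : Nat.card (PresentedGroup (↑L.toFinset : Set (FreeGroup (Fin 2)))) ≤
      Nat.card π.range ∧ Finite (PresentedGroup (↑L.toFinset : Set (FreeGroup (Fin 2)))) := by
    let f : Fin e × N → PresentedGroup (↑L.toFinset : Set (FreeGroup (Fin 2))) := fun c =>
      q A ^ c.1.val * c.2.1
    have hf : Function.Surjective f := fun g => by
      obtain ⟨j, hj, hg⟩ := hcov g
      exact ⟨(⟨j, hj⟩, ⟨_, hg⟩), mul_inv_cancel_left _ _⟩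
    refine ⟨(Nat.card_le_card_of_surjective f hf).trans ?_, Finite.of_surjective f hf⟩
    rw [Nat.card_prod, Nat.card_fin, hrange]
    simp only [K, he]
    have : Nontrivial (SPt m) := ⟨⟨Sum.inr false, Sum.inr true, by simp⟩⟩
    have h2 := two_mul_card_alt (Ω := SPt m)
    have hcard' : 2 * Nat.card N = (Fintype.card (SPt m)).factorial := hcard
    cases alt with
    | true =>
      simp only [↓reduceIte]
      exact (one_mul _).trans_le (by omega)
    | false =>
      simp only [Bool.false_eq_true, ↓reduceIte]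
      rw [Subgroup.card_top, Nat.card_perm, Nat.card_eq_fintype_card (α := SPt m)]
      exact le_of_eq hcard'
  obtain ⟨hle, hfin⟩ := hGle
  have hinj : Function.Injective π := fun u v huv =>
    ((π.rangeRestrict_surjective).bijective_of_nat_card_le hle).1 (Subtype.ext huv)
  let iso := (MonoidHom.ofInjective hinj).trans (MulEquiv.subgroupCongr hrange)
  refine ⟨K, rfl, fun i => iso (PresentedGroup.of i), L.toFinset, ?_, iso, fun i => rfl⟩
  exact (List.toFinset_card_le L).trans (le_of_eq (by simp [L]))

end CfsgLib.SymPresent
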