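import Cfsg.Agent.Lib.SymPresent.Construct
import Cfsg.Agent.Lib.SymPresent.Small

/-!
Short presentations of `S_n` and `A_n`.
-/

set_option autoImplicit false

namespace CfsgLib.SymPresent

open Equiv Equiv.Perm

/-- `S` when `alt = false`, `A` otherwise. -/
def SAlt (Ω : Type) [Fintype Ω] [DecidableEq Ω] (alt : Bool) : Subgroup (Perm Ω) :=
  if alt then alternatingGroup Ω else ⊤

theorem exists_mate {Ω : Type} [Fintype Ω] [DecidableEq Ω] (alt : Bool) {a b i₀ : Ω} (hab : a ≠ b)
    (ha : i₀ ≠ a) (hb : i₀ ≠ b) :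
    ∃ v : Perm Ω, v ∈ SAlt Ω alt ∧
      SAlt Ω alt ≤ Subgroup.closure ({tri a b i₀, v} : Set (Perm Ω)) := by
  classical
  let s : Finset Ω := (Finset.univ.erase a).erase b
  have hs : ∀ u, u ∈ s ↔ u ≠ b ∧ u ≠ a := fun u => by simp [s]
  obtain ⟨f, hf1, hf2, hf3, hf4, -⟩ := exists_cyc s ⟨i₀, (hs i₀).2 ⟨hb, ha⟩⟩
  set tt : Bool := decide ((s.card - 1) % 2 = 1) == alt with htt
  let v : Perm Ω := f * if tt then swap a b else 1
  have hfa : f a = a := hf1 a fun h => ((hs a).1 h).2 rfl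
  have hfb : f b = b := hf1 b fun h => ((hs b).1 h).1 rfl
  have hsv : sign v = if alt then 1 else -1 := by
    have h2 : sign (if tt then swap a b else 1 : Perm Ω) = if tt then -1 else 1 := by
      cases tt <;> simp [sign_swap hab]
    show sign (f * _) = _
    rw [map_mul, hf4, h2, htt]
    rcases Nat.even_or_odd (s.card - 1) with h | h
    · rw [h.neg_one_pow, decide_eq_false (by have := Nat.even_iff.1 h; omega)]
      cases alt <;> simp
    · rw [h.neg_one_pow, decide_eq_true (Nat.odd_iff.1 h)]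
      cases alt <;> simp
  have hvab : (v a = a ∧ v b = b) ∨ (v a = b ∧ v b = a) := by
    simp only [v]
    cases tt
    · exact Or.inl ⟨by simpa using hfa, by simpa using hfb⟩
    · exact Or.inr ⟨by simpa using hfb, by simpa using hfa⟩
  have hvs : ∀ u ∈ s, v u = f u := by
    intro u hu
    obtain ⟨h1, h2⟩ := (hs u).1 hu
    simp only [v]
    cases tt
    · simp
    · simp [swap_apply_of_ne_of_ne h2 h1]
  have hpow : ∀ r : ℕ, ((v ^ r) i₀ = (f ^ r) i₀ ∧ (f ^ r) i₀ ∈ s) ∧
      (((v ^ r) a = a ∧ (v ^ r) b = b) ∨ ((v ^ r) a = b ∧ (v ^ r) b = a)) := by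
    intro r
    induction r with
    | zero => exact ⟨⟨rfl, (hs i₀).2 ⟨hb, ha⟩⟩, Or.inl ⟨rfl, rfl⟩⟩
    | succ r ih =>
      obtain ⟨⟨h1, h2⟩, h3⟩ := ih
      simp only [pow_succ', Perm.mul_apply, h1, hvs _ h2, hf2 _ h2, and_true, true_and]
      rcases h3 with ⟨h3, h4⟩ | ⟨h3, h4⟩ <;> rcases hvab with ⟨h5, h6⟩ | ⟨h5, h6⟩ <;>
        simp [h3, h4, h5, h6]
  set H := Subgroup.closure ({tri a b i₀, v} : Set (Perm Ω))
  have halt : alternatingGroup Ω ≤ H := by
    rw [← closure_tri a b hab, Subgroup.closure_le]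
    rintro g ⟨u, hua, hub, rfl⟩
    obtain ⟨r, hr⟩ := hf3 i₀ ((hs i₀).2 ⟨hb, ha⟩) u ((hs u).2 ⟨hub, hua⟩)
    obtain ⟨⟨h1, -⟩, h2⟩ := hpow r
    have hm : v ^ r * tri a b i₀ * (v ^ r)⁻¹ ∈ H :=
      H.mul_mem (H.mul_mem (H.pow_mem (Subgroup.subset_closure (Or.inr rfl)) r)
        (Subgroup.subset_closure (Or.inl rfl)))
        (H.inv_mem (H.pow_mem (Subgroup.subset_closure (Or.inr rfl)) r))
    rw [conj_tri_mem _ ha hb h2 H, h1, hr] at hm
    exact hm
  unfold SAlt
  cases alt with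
  | true => exact ⟨v, Equiv.Perm.mem_alternatingGroup.2 (by simpa using hsv), halt⟩
  | false =>
    refine ⟨v, Subgroup.mem_top _, fun g _ => ?_⟩
    rcases Int.units_eq_one_or (sign g) with h | h
    · exact halt (Equiv.Perm.mem_alternatingGroup.2 h)
    · have hsv' : sign v = -1 := by simpa using hsv
      have h1 : g * v ∈ H := halt (Equiv.Perm.mem_alternatingGroup.2 (by
        rw [map_mul, h, hsv']; rfl))
      simpa using H.mul_mem h1 (H.inv_mem (Subgroup.subset_closure (Or.inr rfl)))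

/-- Transport to `Fin n`. -/
theorem exists_equiv_fin {Ω : Type} [Fintype Ω] [DecidableEq Ω] {n : ℕ} (h : Fintype.card Ω = n)
    (alt : Bool) : Nonempty (SAlt Ω alt ≃* SAlt (Fin n) alt) := by
  let e : Ω ≃ Fin n := Fintype.equivFinOfCardEq h
  let E : Perm Ω ≃* Perm (Fin n) := e.permCongrHom
  refine ⟨(E.subgroupMap (SAlt Ω alt)).trans (MulEquiv.subgroupCongr ?_)⟩
  unfold SAlt
  cases alt with
  | true =>
    ext g
    simp only [↓reduceIte, Subgroup.mem_map, Equiv.Perm.mem_alternatingGroup]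
    refine ⟨?_, fun hg => ⟨E.symm g, ?_, E.apply_symm_apply g⟩⟩
    · rintro ⟨f, hf, rfl⟩
      rw [← hf]
      exact Equiv.Perm.sign_permCongr e f
    · rw [← hg]
      exact Equiv.Perm.sign_permCongr e.symm g
  | false =>
    simp only [Bool.false_eq_true, ↓reduceIte]
    exact Subgroup.map_top_of_surjective _ E.surjective

/-- Three generators, seven relations, and a mate for the third generator. -/
theorem three_gen_large (n : ℕ) (hn : 5 ≤ n) (h6 : n ≠ 6) (alt : Bool) :
    ∃ v : Fin 3 → SAlt (Fin n) alt, HasPres v 7 ∧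
      ∃ g, Subgroup.closure ({v 2, g} : Set (SAlt (Fin n) alt)) = ⊤ := by
  classical
  obtain ⟨p, k, hp, hp2, hnk, hk⟩ := exists_split n hn h6
  have : Fact p.Prime := ⟨hp⟩
  obtain ⟨D, rfl⟩ := exists_data (p := p) (k := k) hp2 hk alt
  obtain ⟨rels, hc, e, he⟩ := exists_presentation D
  have hcard : Fintype.card (Pts p k) = n := by
    simp [Fintype.card_sum, ZMod.card]; omega
  have htgt : D.tgt = SAlt (Pts p k) D.alt := rfl
  obtain ⟨E⟩ := exists_equiv_fin hcard D.alt
  let f : D.tgt ≃* SAlt (Fin n) D.alt := (MulEquiv.subgroupCongr htgt).trans E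
  have hP : HasPres (fun i => f (e (PresentedGroup.of i))) 7 :=
    HasPres.map (v := fun i => e (PresentedGroup.of i)) ⟨rels, hc, e, fun i => rfl⟩ f
  refine ⟨_, hP, ?_⟩
  obtain ⟨w, hw, hle⟩ := exists_mate D.alt (Ω := Pts p k) (a := Sum.inl (Sum.inr false))
    (b := Sum.inl (Sum.inr true)) (i₀ := Sum.inl (Sum.inl 0)) (by simp) (by simp) (by simp)
  refine ⟨f ⟨w, htgt ▸ hw⟩, ?_⟩
  set u := e (PresentedGroup.of 2) with hu
  have hu' : (u : Perm (Pts p k)) = D.c * emb p k (T3 0) := he 2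
  have hx : ((u : Perm (Pts p k)) ^ 2)⁻¹ = tri (Sum.inl (Sum.inr false)) (Sum.inl (Sum.inr true))
      (Sum.inl (Sum.inl 0)) := by
    rw [hu', ← emb_tri]
    exact (D.map_parts (G := Perm (Pts p k)) (π := MonoidHom.id _) rfl).1
  have hpre : Subgroup.closure ({u, ⟨w, htgt ▸ hw⟩} : Set D.tgt) = ⊤ := by
    rw [eq_top_iff]
    intro z _
    have hz : (z : Perm (Pts p k)) ∈
        (Subgroup.closure ({u, ⟨w, htgt ▸ hw⟩} : Set D.tgt)).map D.tgt.subtype := by
      refine (Subgroup.closure_le _).2 ?_ (hle (htgt ▸ z.2))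
      rintro y (rfl | rfl)
      · rw [SetLike.mem_coe, ← hx]
        have hm : u ∈ Subgroup.closure ({u, ⟨w, htgt ▸ hw⟩} : Set D.tgt) :=
          Subgroup.subset_closure (Or.inl rfl)
        exact Subgroup.inv_mem _ (Subgroup.pow_mem _ (Subgroup.mem_map_of_mem D.tgt.subtype hm) 2)
      · exact Subgroup.mem_map_of_mem D.tgt.subtype
          (Subgroup.subset_closure (Or.inr rfl) : (⟨y, htgt ▸ hw⟩ : D.tgt) ∈ _)
    obtain ⟨z', hz', e'⟩ := Subgroup.mem_map.1 hz
    rwa [← Subtype.ext (e' : (z' : Perm (Pts p k)) = z)]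
  have := congrArg (Subgroup.map f.toMonoidHom) hpre
  rw [MonoidHom.map_closure, Subgroup.map_top_of_surjective _ f.surjective, Set.image_pair] at this
  exact this

theorem small_even (n h : ℕ) (hh : 0 < h) (hn : n = 2 * h + 2) (alt : Bool) :
    ∃ v : Fin 2 → SAlt (Fin n) alt, HasPres v (h + 3) := by
  classical
  have : NeZero (2 * h) := ⟨by omega⟩
  obtain ⟨K, rfl, v, hv⟩ := small_presentation alt h hh
  obtain ⟨E⟩ := exists_equiv_fin (Ω := SPt (2 * h)) (n := n) (by simp [hn]) alt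
  exact ⟨_, hv.map E⟩

/-- Three generators and seven relations. -/
theorem three_gen (n : ℕ) (hn : 5 ≤ n) (alt : Bool) :
    ∃ v : Fin 3 → SAlt (Fin n) alt, HasPres v 7 := by
  by_cases h6 : n = 6
  · obtain ⟨v, hv⟩ := small_even n 2 two_pos (by omega) alt
    obtain ⟨w, hw⟩ := hv.three
    exact ⟨w, hw.mono (by norm_num)⟩
  · obtain ⟨v, hv, -⟩ := three_gen_large n hn h6 alt
    exact ⟨v, hv⟩

theorem tiny (n : ℕ) (hn : n ≤ 3) (alt : Bool) :
    ∃ v : Fin 2 → SAlt (Fin n) alt, HasPres v 3 := by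
  classical
  have key : ∀ (x y : Perm (Fin n)) (r s t : ℕ) (hx : x ∈ SAlt (Fin n) alt)
      (hy : y ∈ SAlt (Fin n) alt), 0 < r → 0 < s → x ^ r = 1 → y ^ s = 1 →
      x * y * x⁻¹ = y ^ t → (∀ g ∈ SAlt (Fin n) alt, g ∈ Subgroup.closure ({x, y} : Set (Perm (Fin n)))) →
      Nat.card (SAlt (Fin n) alt) = r * s → ∃ v : Fin 2 → SAlt (Fin n) alt, HasPres v 3 := by
    intro x y r s t hx hy hr hs h1 h2 h3 hgen hcard
    refine ⟨_, hasPres_metacyclic ⟨x, hx⟩ ⟨y, hy⟩ r s t hr hs (Subtype.ext h1) (Subtype.ext h2)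
      (Subtype.ext h3) ?_ hcard⟩
    rw [eq_top_iff]
    intro g _
    have hg := hgen g g.2
    have hle : Subgroup.closure ({x, y} : Set (Perm (Fin n))) ≤
        (Subgroup.closure ({⟨x, hx⟩, ⟨y, hy⟩} : Set (SAlt (Fin n) alt))).map
          (SAlt (Fin n) alt).subtype := by
      rw [MonoidHom.map_closure, Set.image_pair]
      exact le_rfl
    obtain ⟨z, hz, e⟩ := Subgroup.mem_map.1 (hle hg)
    rwa [← Subtype.ext (e : (z : Perm (Fin n)) = g)]
  have htriv : Nat.card (SAlt (Fin n) alt) = 1 → ∃ v : Fin 2 → SAlt (Fin n) alt, HasPres v 3 :=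
    fun h => by
      have : Subsingleton (SAlt (Fin n) alt) := (Nat.card_eq_one_iff_unique.1 h).1
      refine key 1 1 1 1 1 (one_mem _) (one_mem _) one_pos one_pos (one_pow 1) (one_pow 1) (by simp)
        (fun g hg => ?_) h
      have := congrArg Subtype.val (Subsingleton.elim (⟨g, hg⟩ : SAlt (Fin n) alt) 1)
      rw [show g = 1 from this]
      exact one_mem _
  cases alt with
  | true =>
    interval_cases n
    · exact htriv (by rw [SAlt, if_pos rfl, Nat.card_eq_fintype_card]; rfl)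
    · exact htriv (by rw [SAlt, if_pos rfl, Nat.card_eq_fintype_card]; rfl)
    · exact htriv (by rw [SAlt, if_pos rfl, Nat.card_eq_fintype_card]; rfl)
    · refine key 1 (finRotate 3) 1 3 1 (one_mem _) ?_ one_pos (by norm_num) (one_pow 1) ?_
        (by simp) ?_ ?_
      · rw [SAlt, if_pos rfl, Equiv.Perm.mem_alternatingGroup]; decide
      · decide
      · intro g hg
        rw [SAlt, if_pos rfl, Equiv.Perm.mem_alternatingGroup] at hg
        have : g = (finRotate 3) ^ 0 ∨ g = (finRotate 3) ^ 1 ∨ g = (finRotate 3) ^ 2 := by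
          revert g; decide
        have hm : finRotate 3 ∈ Subgroup.closure ({1, finRotate 3} : Set (Perm (Fin 3))) :=
          Subgroup.subset_closure (Or.inr rfl)
        rcases this with rfl | rfl | rfl <;> exact Subgroup.pow_mem _ hm _
      · rw [SAlt, if_pos rfl, Nat.card_eq_fintype_card]; rfl
  | false =>
    interval_cases n
    · exact htriv (by rw [SAlt, if_neg (by simp), Subgroup.card_top, Nat.card_perm]; simp)
    · exact htriv (by rw [SAlt, if_neg (by simp), Subgroup.card_top, Nat.card_perm]; simp)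
    · refine key (swap 0 1) 1 2 1 1 (by simp [SAlt]) (one_mem _) two_pos one_pos ?_ (one_pow 1)
        (by simp) ?_ ?_
      · decide
      · intro g _
        have hall : ∀ g : Perm (Fin 2), g = 1 ∨ g = swap (0 : Fin 2) 1 := by decide
        rcases hall g with rfl | rfl
        · exact one_mem _
        · exact Subgroup.subset_closure (Or.inl rfl)
      · rw [SAlt, if_neg (by simp), Subgroup.card_top, Nat.card_perm, Nat.card_fin]; rfl
    · refine key (swap 0 1) (finRotate 3) 2 3 2 (by simp [SAlt]) (by simp [SAlt]) two_pos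
        (by norm_num) ?_ ?_ ?_ ?_ ?_
      · decide
      · decide
      · decide
      · intro g _
        have hall : ∀ g : Perm (Fin 3), ∃ i : Fin 2, ∃ j : Fin 3,
            g = swap (0 : Fin 3) 1 ^ i.val * finRotate 3 ^ j.val := by decide
        obtain ⟨i, j, rfl⟩ := hall g
        have h1 : swap (0 : Fin 3) 1 ∈
            Subgroup.closure ({swap 0 1, finRotate 3} : Set (Perm (Fin 3))) :=
          Subgroup.subset_closure (Or.inl rfl)
        have h2 : finRotate 3 ∈
            Subgroup.closure ({swap 0 1, finRotate 3} : Set (Perm (Fin 3))) :=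
          Subgroup.subset_closure (Or.inr rfl)
        exact mul_mem (pow_mem h1 _) (pow_mem h2 _)
      · rw [SAlt, if_neg (by simp), Subgroup.card_top, Nat.card_perm, Nat.card_fin]; rfl

/-- Two generators and eight relations, for every degree. -/
theorem two_gen (n : ℕ) (alt : Bool) : ∃ v : Fin 2 → SAlt (Fin n) alt, HasPres v 8 := by
  rcases Nat.lt_or_ge n 4 with h | h
  · obtain ⟨v, hv⟩ := tiny n (by omega) alt
    exact ⟨v, hv.mono (by norm_num)⟩
  by_cases h4 : n = 4
  · obtain ⟨v, hv⟩ := small_even n 1 one_pos (by omega) alt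
    exact ⟨v, hv.mono (by norm_num)⟩
  by_cases h6 : n = 6
  · obtain ⟨v, hv⟩ := small_even n 2 two_pos (by omega) alt
    exact ⟨v, hv.mono (by norm_num)⟩
  obtain ⟨v, hv, g, hg⟩ := three_gen_large n (by omega) h6 alt
  exact ⟨_, hv.two_of_mate hg⟩

/-- The symmetric group as a subgroup. -/
def symEquiv (n : ℕ) : SAlt (Fin n) false ≃* Perm (Fin n) :=
  (MulEquiv.subgroupCongr (by simp [SAlt])).trans Subgroup.topEquiv

/-- The alternating group as a subgroup. -/
def altEquiv (n : ℕ) : SAlt (Fin n) true ≃* alternatingGroup (Fin n) :=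
  MulEquiv.subgroupCongr (by simp [SAlt])

end CfsgLib.SymPresent
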