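import Cfsg.Agent.Lib.SymPresent.Core

/-!
Consequences of the seven relations, and the resulting bound on the order.
-/

set_option autoImplicit false

namespace CfsgLib.SymPresent

open Equiv Equiv.Perm

variable {p k : ℕ} [Fact p.Prime] {D : Data p k} {G : Type*} [Group G]
  {π : G →* Perm (Pts p k)} {a b d V V' W σw τw : G}

/-- The translates of the three-cycle generator. -/
def xs (a d : G) (i : ZMod p) : G := a ^ i.val * (d ^ 2)⁻¹ * (a ^ i.val)⁻¹

namespace Sat

variable (S : Sat D π a b d V V' W σw τw)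
include S

theorem ap : a ^ p = 1 := by
  have hs : D.s ≠ 0 := D.s_ne_zero
  have h1 : Commute b (a ^ p) := by rw [S.r1]; exact Commute.self_pow b _
  have h2 : (a ^ p) ^ D.s.val = (a ^ p) ^ (D.s - 1).val := by
    rw [← pow_mul, ← pow_mul, mul_comm p, mul_comm p (D.s - 1).val, pow_mul a _ p, pow_mul a _ p,
      ← S.r2, ← MulAut.conj_apply, ← map_pow, ← pow_mul, mul_comm, pow_mul, MulAut.conj_apply,
      (h1.pow_right _).eq, mul_inv_cancel_right]
  have hone : (1 : ZMod p).val ≤ D.s.val := by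
    rw [ZMod.val_one]
    exact Nat.one_le_iff_ne_zero.2 fun h => hs ((ZMod.val_eq_zero _).1 h)
  rw [ZMod.val_sub hone, ZMod.val_one] at h2
  rw [ZMod.val_one] at hone
  rw [show D.s.val = D.s.val - 1 + 1 by omega, pow_succ, Nat.add_sub_cancel] at h2
  exact mul_eq_left.1 h2

theorem bp : b ^ (p - 1) = 1 := S.r1 ▸ S.ap

theorem a_add (i j : ZMod p) : a ^ (i + j).val = a ^ i.val * a ^ j.val := by
  rw [ZMod.val_add, ← pow_eq_pow_mod _ S.ap, pow_add]

theorem a_nat (n : ℕ) : a ^ (n : ZMod p).val = a ^ n := by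
  rw [ZMod.val_natCast, ← pow_eq_pow_mod _ S.ap]

theorem a_mul (n : ℕ) (i : ZMod p) : a ^ ((n : ZMod p) * i).val = (a ^ i.val) ^ n := by
  rw [← pow_mul, ZMod.val_mul, ← pow_eq_pow_mod _ S.ap, ZMod.val_natCast, mul_comm, pow_mul,
    pow_mul, ← pow_eq_pow_mod _ (by rw [← pow_mul, mul_comm, pow_mul, S.ap, one_pow])]

theorem b_a (i : ZMod p) : b * a ^ i.val * b⁻¹ = a ^ ((D.g : ZMod p) * i).val := by
  obtain ⟨n, hn⟩ : ∃ n : ℕ, (n : ZMod p) = i * (1 - D.g) :=
    ⟨(i * (1 - D.g)).val, ZMod.natCast_zmod_val _⟩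
  have hi : i = (n : ZMod p) * D.s := by
    rw [hn, Data.s, mul_assoc, mul_inv_cancel₀ D.one_sub_g_ne, mul_one]
  have hgi : (D.g : ZMod p) * i = (n : ZMod p) * (D.s - 1) := by rw [hi, D.s_spec]; ring
  rw [hgi, hi, S.a_mul, S.a_mul, ← S.r2, ← MulAut.conj_apply, map_pow, MulAut.conj_apply]

theorem xs_zero : xs a d (0 : ZMod p) = (d ^ 2)⁻¹ := by simp [xs]

theorem a_xs (i : ZMod p) : a * xs a d i * a⁻¹ = xs a d (1 + i) := by
  simp only [xs]
  rw [show a ^ (1 + i).val = a * a ^ i.val by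
    rw [S.a_add, ← Nat.cast_one, S.a_nat, pow_one]]
  group

theorem conj_xs (j i : ZMod p) :
    a ^ j.val * xs a d i * (a ^ j.val)⁻¹ = xs a d (j + i) := by
  simp only [xs, S.a_add]
  group

theorem b_xs (i : ZMod p) : b * xs a d i * b⁻¹ =
    if D.alt then (xs a d ((D.g : ZMod p) * i))⁻¹ else xs a d ((D.g : ZMod p) * i) := by
  have h := S.r3
  have he : b * xs a d i * b⁻¹ = a ^ ((D.g : ZMod p) * i).val * (b * (d ^ 2)⁻¹ * b⁻¹) *
      (a ^ ((D.g : ZMod p) * i).val)⁻¹ := by
    rw [← S.b_a i]; simp only [xs]; group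
  rw [he, h]
  cases D.alt
  · simp [xs]
  · simp only [if_true, xs]; group

/-- The pair relations. -/
theorem pairs : (∀ i : ZMod p, xs a d i ^ 3 = (d ^ 2)⁻¹ ^ 3) ∧
    ∀ i j : ZMod p, i ≠ j → (xs a d i * xs a d j) ^ 2 = (d ^ 2)⁻¹ ^ 3 := by
  set x := (d ^ 2)⁻¹ with hx
  set z := x ^ 3 with hz
  have hzx : Commute z x := (Commute.refl x).pow_left 3
  have hpair : ∀ r : ℕ, (x * xs a d ((D.g : ZMod p) ^ r)) ^ 2 = z := by
    intro r
    induction r with
    | zero =>
      rw [pow_zero, show xs a d (1 : ZMod p) = a * x * a⁻¹ by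
        simp only [xs]; rw [← Nat.cast_one, S.a_nat, pow_one]]
      exact S.r4
    | succ r ih =>
      have h0 := S.b_xs 0
      rw [mul_zero, S.xs_zero, ← hx] at h0
      have h1 := S.b_xs ((D.g : ZMod p) ^ r)
      rw [← pow_succ'] at h1
      have h2 : (b * x * b⁻¹ * (b * xs a d ((D.g : ZMod p) ^ r) * b⁻¹)) ^ 2 =
          (b * x * b⁻¹) ^ 3 := by
        simp only [← MulAut.conj_apply, ← map_mul, ← map_pow, ih]
        rw [hz]
      rw [h0, h1] at h2
      cases halt : D.alt with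
      | false => simpa [halt] using h2
      | true =>
        simp only [halt, if_true, ← mul_inv_rev, inv_pow, inv_inj] at h2
        calc (x * xs a d ((D.g : ZMod p) ^ (r + 1))) ^ 2
            = x * (xs a d ((D.g : ZMod p) ^ (r + 1)) * x) ^ 2 * x⁻¹ := by
              rw [← MulAut.conj_apply, map_pow, MulAut.conj_apply]; group
          _ = z := by rw [h2, ← hz, ← hzx.eq, mul_inv_cancel_right]
  have hzero : ∀ i : ZMod p, i ≠ 0 → (x * xs a d i) ^ 2 = z ∧ (xs a d i * x) ^ 2 = z := by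
    intro i hi
    obtain ⟨r, hr⟩ := D.g_gen (Units.mk0 i hi)
    have hr' : (D.g : ZMod p) ^ r = i := by
      have := congrArg Units.val hr
      simpa using this
    have h1 := hr' ▸ hpair r
    refine ⟨h1, ?_⟩
    calc (xs a d i * x) ^ 2 = x⁻¹ * (x * xs a d i) ^ 2 * x := by
          simp only [pow_succ, pow_zero, one_mul]; group
      _ = z := by rw [h1, mul_assoc, hzx.eq, inv_mul_cancel_left]
  have hcube : ∀ i : ZMod p, xs a d i ^ 3 = a ^ i.val * z * (a ^ i.val)⁻¹ := fun i => by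
    rw [hz, hx, xs, ← MulAut.conj_apply, ← map_pow, MulAut.conj_apply]
  have hgen : ∀ i j : ZMod p, i ≠ j → (xs a d i * xs a d j) ^ 2 = xs a d i ^ 3 ∧
      (xs a d i * xs a d j) ^ 2 = xs a d j ^ 3 := by
    intro i j hij
    constructor
    · have h := (hzero (j - i) (sub_ne_zero.2 hij.symm)).1
      calc (xs a d i * xs a d j) ^ 2
          = MulAut.conj (a ^ i.val) ((x * xs a d (j - i)) ^ 2) := by
            rw [map_pow, map_mul, MulAut.conj_apply, MulAut.conj_apply, S.conj_xs, add_sub_cancel]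
            rfl
        _ = _ := by rw [h, hcube, MulAut.conj_apply]
    · have h := (hzero (i - j) (sub_ne_zero.2 hij)).2
      calc (xs a d i * xs a d j) ^ 2
          = MulAut.conj (a ^ j.val) ((xs a d (i - j) * x) ^ 2) := by
            rw [map_pow, map_mul, MulAut.conj_apply, MulAut.conj_apply, S.conj_xs, add_sub_cancel]
            rfl
        _ = _ := by rw [h, hcube, MulAut.conj_apply]
  have hall : ∀ i : ZMod p, xs a d i ^ 3 = z := by
    intro i
    rcases eq_or_ne i 0 with rfl | hi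
    · rw [S.xs_zero]
    · obtain ⟨h1, h2⟩ := hgen i 0 hi
      rw [← h1, h2, S.xs_zero]
  exact ⟨hall, fun i j hij => (hgen i j hij).1.trans (hall i)⟩

theorem πxs (i : ZMod p) : π (xs a d i) = emb p k (T3 i) := by
  have hT : emb p k (T3 (p := p) 0) ^ 3 = 1 := by
    rw [← map_pow, T3, tri_cube (by simp) (by simp) (by simp), map_one]
  have hd : π (d ^ 2)⁻¹ = emb p k (T3 0) := by
    rw [map_inv, map_pow, S.πd, sq]
    have hc := D.conj_c_T3 0 D.zero_avoid
    rw [D.swp_zero, mul_inv_eq_iff_eq_mul] at hc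
    rw [show D.c * emb p k (T3 0) * (D.c * emb p k (T3 0)) =
      D.c * (emb p k (T3 0) * D.c) * emb p k (T3 0) by group, ← hc, ← mul_assoc, D.c_sq, one_mul,
      inv_eq_iff_mul_eq_one, ← pow_three', hT]
  have haP : ∀ (n : ℕ), (Data.aP ^ n : Perm (Pt p)) (Sum.inl 0) = Sum.inl (n : ZMod p) ∧
      ∀ t, (Data.aP ^ n : Perm (Pt p)) (Sum.inr t) = Sum.inr t := by
    intro n
    induction n with
    | zero => simp
    | succ n ih =>
      refine ⟨?_, fun t => ?_⟩
      · rw [pow_succ', Perm.mul_apply, ih.1]; simp [Data.aP]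
      · rw [pow_succ', Perm.mul_apply, ih.2]; simp [Data.aP]
  rw [xs, map_mul, map_mul, map_inv π (a ^ i.val), map_pow, S.πa, hd, ← map_pow, ← map_inv,
    ← map_mul, ← map_mul, T3, conj_tri, (haP _).1, (haP _).2, (haP _).2, ZMod.natCast_zmod_val]
  rfl

/-- The central element is trivial, so the translates satisfy Carmichael's relations. -/
theorem carm : Carm (xs (p := p) a d) ∧ (d ^ 2)⁻¹ ^ 3 = 1 := by
  obtain ⟨hcube, hpair⟩ := S.pairs
  set x := (d ^ 2)⁻¹ with hx
  set z := x ^ 3 with hz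
  have hzxs : ∀ i : ZMod p, Commute z (xs a d i) := fun i =>
    hcube i ▸ (Commute.refl (xs a d i)).pow_left 3
  have hz2 : z ^ 2 = 1 := by
    have h10 : (1 : ZMod p) ≠ 0 := one_ne_zero
    exact pair_collapse (x := xs a d (0 : ZMod p)) (y := xs a d (1 : ZMod p)) (hcube 0) (hcube 1)
      (hzxs 0) (hzxs 1) (hpair 0 1 h10.symm) (hpair 1 0 h10)
  have hzinv : z⁻¹ = z := inv_eq_of_mul_eq_one_right (by rw [← sq, hz2])
  have hzcen : ∀ g : G, Commute z g := by
    intro g
    have hg : g ∈ Subgroup.closure ({a, b, d} : Set G) := S.top ▸ Subgroup.mem_top g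
    induction hg using Subgroup.closure_induction with
    | mem w hw =>
      simp only [Set.mem_insert_iff, Set.mem_singleton_iff] at hw
      rcases hw with rfl | rfl | rfl
      · have h1 := hcube (1 : ZMod p)
        rw [xs, ← Nat.cast_one, S.a_nat, pow_one, ← hx, ← MulAut.conj_apply, ← map_pow, ← hz,
          MulAut.conj_apply, mul_inv_eq_iff_eq_mul] at h1
        exact h1.symm
      · have h3 := S.r3
        have h4 : w * z * w⁻¹ = z := by
          rw [hz, ← MulAut.conj_apply, map_pow, MulAut.conj_apply, h3]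
          cases D.alt
          · rfl
          · show (d ^ 2) ^ 3 = x ^ 3
            rw [← hz, ← hzinv, hz, hx, inv_pow, inv_inv]
        exact (mul_inv_eq_iff_eq_mul.1 h4).symm
      · exact ((((Commute.refl w).pow_left 2).inv_left).pow_left 3)
    | one => exact Commute.one_right _
    | mul _ _ _ _ h1 h2 => exact h1.mul_right h2
    | inv _ _ h => exact h.inv_right
  let Z := Subgroup.zpowers z
  have hZc : Z ≤ Subgroup.center G := Subgroup.zpowers_le.2
    (Subgroup.mem_center_iff.2 fun g => (hzcen g).symm.eq)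
  have : Z.Normal := ⟨fun n hn g => by
    rwa [← Subgroup.mem_center_iff.1 (hZc hn) g |>.symm, mul_inv_cancel_right] ⟩
  have hπz : π z = 1 := by
    have hT : emb p k (T3 (p := p) 0) ^ 3 = 1 := by
      rw [← map_pow, T3, tri_cube (by simp) (by simp) (by simp), map_one]
    rw [hz, map_pow, hx, ← S.xs_zero, S.πxs, hT]
  let π' : G ⧸ Z →* Perm (Pts p k) := QuotientGroup.lift Z π
    ((Subgroup.zpowers_le.2 hπz : Z ≤ π.ker))
  have hmkz : QuotientGroup.mk' Z z = 1 :=
    (QuotientGroup.eq_one_iff _).2 (Subgroup.mem_zpowers z)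
  have hC : Carm fun i : ZMod p => QuotientGroup.mk' Z (xs a d i) :=
    ⟨fun i => by rw [← map_pow, hcube, hmkz],
      fun i j hij => by rw [← map_mul, ← map_pow, hpair i j hij, hmkz]⟩
  have hinj := (injOn_of_carm hC π' (emb p k) emb_injective (a := Sum.inr false)
    (b := Sum.inr true) (by simp) Sum.inl (by simp) (by simp) Sum.inl_injective
    (by rintro (u | u) h1 h2
        · exact ⟨u, rfl⟩
        · cases u <;> simp at h1 h2)
    (fun i => by
      show π (xs a d i) = _
      rw [S.πxs]; rfl)).1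
  have hσmem : QuotientGroup.mk' Z σw ∈
      Subgroup.closure (Set.range fun i : ZMod p => QuotientGroup.mk' Z (xs a d i)) := by
    have := Subgroup.mem_map_of_mem (QuotientGroup.mk' Z) S.mσ
    rwa [MonoidHom.map_closure, ← Set.range_comp] at this
  have hσm : σw ^ D.m ∈ Z := by
    rw [← QuotientGroup.eq_one_iff]
    refine hinj ?_ (Subgroup.one_mem _) ?_
    · exact Subgroup.pow_mem _ hσmem _
    · show π (σw ^ D.m) = π' 1
      rw [map_one, map_pow, S.πσ, ← map_pow, D.σ_pow, map_one]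
  have hz1 : z = 1 := by
    have hm := tail_collapse (hzcen σw).symm S.r6 D.m
      ((Subgroup.mem_center_iff.1 (hZc hσm) _).symm)
    obtain ⟨m', hm'⟩ := D.m_odd
    rwa [hm', pow_succ, pow_mul, hz2, one_pow, one_mul] at hm
  exact ⟨⟨fun i => (hcube i).trans hz1, fun i j hij => (hpair i j hij).trans hz1⟩, hz1⟩

end Sat

end CfsgLib.SymPresent
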