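import Cfsg.Agent.Lib.SymPresent.Glue

/-!
The presentation attached to the permutation data.
-/

set_option autoImplicit false

namespace CfsgLib.SymPresent

open Equiv Equiv.Perm

variable {p k : ℕ} [Fact p.Prime]

theorem aP_pow (n : ℕ) : (∀ i, (Data.aP ^ n : Perm (Pt p)) (Sum.inl i) = Sum.inl (i + n)) ∧
    ∀ t, (Data.aP ^ n : Perm (Pt p)) (Sum.inr t) = Sum.inr t := by
  induction n with
  | zero => simp
  | succ n ih =>
    refine ⟨fun i => ?_, fun t => ?_⟩
    · rw [pow_succ', Perm.mul_apply, ih.1]; simp [Data.aP, add_assoc]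
    · rw [pow_succ', Perm.mul_apply, ih.2]; simp [Data.aP]

theorem aP_order : (Data.aP : Perm (Pt p)) ^ p = 1 := by
  ext u
  rcases u with i | t
  · rw [(aP_pow p).1, ZMod.natCast_self, add_zero]; rfl
  · rw [(aP_pow p).2]; rfl

namespace Data

variable (D : Data p k)

include D in
theorem p_odd : Odd p := by
  rcases (Fact.out : p.Prime).eq_two_or_odd' with rfl | h
  · exact absurd (zmod_two_ne_zero _ (Units.ne_zero _)) D.g_ne
  · exact h

include D in
theorem sign_aP : sign (Data.aP : Perm (Pt p)) = 1 := by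
  have h : sign (Data.aP : Perm (Pt p)) ^ p = 1 := by rw [← map_pow, aP_order, map_one]
  rcases Int.units_eq_one_or (sign (Data.aP : Perm (Pt p))) with h1 | h1
  · exact h1
  · rw [h1, D.p_odd.neg_one_pow] at h
    exact absurd h (by decide)

theorem sign_emb (f : Perm (Pt p)) : sign (emb p k f) = sign f := by
  show sign (Equiv.Perm.sumCongr f 1) = _
  rw [Equiv.Perm.sign_sumCongr, Equiv.Perm.sign_one, mul_one]

theorem sign_mulLeft : sign (D.g.mulLeft : Perm (ZMod p)) = -1 := by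
  have hcyc : (D.g.mulLeft : Perm (ZMod p)).IsCycle := by
    refine ⟨1, ?_, fun y hy => ?_⟩
    · simpa using D.g_ne
    · have hy0 : y ≠ 0 := fun h => hy (by simp [h])
      obtain ⟨r, hr⟩ := D.g_gen (Units.mk0 y hy0)
      refine ⟨(r : ℤ), ?_⟩
      rw [zpow_natCast]
      have hpow : ∀ n : ℕ, ((D.g.mulLeft : Perm (ZMod p)) ^ n) 1 = (D.g : ZMod p) ^ n := by
        intro n
        induction n with
        | zero => simp
        | succ n ih => rw [pow_succ', Perm.mul_apply, ih, pow_succ']; rfl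
      rw [hpow, ← Units.val_pow_eq_pow_val, hr, Units.val_mk0]
  have hsupp : (D.g.mulLeft : Perm (ZMod p)).support = Finset.univ.erase 0 := by
    ext y
    simp only [Equiv.Perm.mem_support, Finset.mem_erase, Finset.mem_univ, and_true]
    refine ⟨fun h hy => h (by simp [hy]), fun hy h => D.g_ne ?_⟩
    have h' : (D.g : ZMod p) * y = 1 * y := by rw [one_mul]; exact h
    exact mul_right_cancel₀ hy h'
  rw [hcyc.sign, hsupp, Finset.card_erase_of_mem (Finset.mem_univ _), Finset.card_univ, ZMod.card]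
  obtain ⟨m, hm⟩ := D.p_odd
  rw [hm, Nat.add_sub_cancel, pow_mul, neg_one_sq, one_pow]

theorem sign_bP : sign D.bP = if D.alt then 1 else -1 := by
  rw [Data.bP]
  show sign (Equiv.Perm.sumCongr _ _) = _
  rw [Equiv.Perm.sign_sumCongr, D.sign_mulLeft]
  cases D.alt
  · simp
  · simp

theorem bP_pow : D.bP ^ (p - 1) = 1 := by
  obtain ⟨m, hm⟩ := D.p_odd
  have hpow : ∀ n : ℕ, D.bP ^ n = Equiv.sumCongr ((D.g ^ n).mulLeft)
      ((if D.alt then swap false true else 1) ^ n) := by
    intro n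
    induction n with
    | zero => ext u; rcases u with u | u <;> simp
    | succ n ih =>
      rw [pow_succ, ih]
      ext u
      rcases u with u | u
      · simp [Data.bP, pow_succ, mul_assoc]
      · cases halt : D.alt <;> simp [Data.bP, halt, pow_succ]
  rw [hpow, ZMod.units_pow_card_sub_one_eq_one, show p - 1 = 2 * m by omega]
  ext u
  rcases u with u | u
  · simp
  · cases D.alt <;> simp [pow_mul, sq]

theorem bP_aP : D.bP * Data.aP ^ D.s.val * D.bP⁻¹ = Data.aP ^ (D.s - 1).val := by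
  rw [mul_inv_eq_iff_eq_mul]
  ext u
  rcases u with i | t
  · rw [Perm.mul_apply, (aP_pow _).1, Perm.mul_apply]
    show Sum.inl ((D.g : ZMod p) * (i + _)) = (Data.aP ^ _ : Perm (Pt p)) (Sum.inl (D.g * i))
    rw [(aP_pow _).1, ZMod.natCast_zmod_val, ZMod.natCast_zmod_val, D.s_spec, mul_add]
  · rw [Perm.mul_apply, (aP_pow _).2, Perm.mul_apply]
    exact ((aP_pow _).2 _).symm

theorem bP_T3 : D.bP * T3 0 * D.bP⁻¹ = if D.alt then (T3 0)⁻¹ else T3 0 := by
  rw [T3, conj_tri]
  have h0 : D.bP (Sum.inl 0) = Sum.inl 0 := by simp [Data.bP]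
  rw [h0]
  cases halt : D.alt
  · have h1 : ∀ t, D.bP (Sum.inr t) = Sum.inr t := fun t => by simp [Data.bP, halt]
    rw [h1, h1]; rfl
  · have h1 : D.bP (Sum.inr false) = Sum.inr true := by simp [Data.bP, halt]
    have h2 : D.bP (Sum.inr true) = Sum.inr false := by simp [Data.bP, halt]
    rw [h1, h2, if_pos rfl, tri_inv (by simp) (by simp)]

variable {G : Type*} [Group G] {π : G →* Perm (Pts p k)} {a d : G}

theorem map_parts (hd : π d = D.c * emb p k (T3 0)) :
    π (d ^ 2)⁻¹ = emb p k (T3 0) ∧ π (d ^ 3) = D.c := by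
  have hT : emb p k (T3 (p := p) 0) ^ 3 = 1 := by
    rw [← map_pow, T3, tri_cube (by simp) (by simp) (by simp), map_one]
  have hc := D.conj_c_T3 0 D.zero_avoid
  rw [D.swp_zero, mul_inv_eq_iff_eq_mul] at hc
  have hc' : Commute D.c (emb p k (T3 0)) := hc
  refine ⟨?_, ?_⟩
  · rw [map_inv, map_pow, hd, hc'.mul_pow, sq D.c, D.c_sq, one_mul, inv_eq_iff_mul_eq_one,
      ← pow_succ, hT]
  · rw [map_pow, hd, hc'.mul_pow, hT, mul_one, pow_succ, sq, D.c_sq, one_mul]

theorem map_xs (ha : π a = emb p k Data.aP) (hd : π d = D.c * emb p k (T3 0)) (i : ZMod p) :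
    π (xs a d i) = emb p k (T3 i) := by
  rw [xs, map_mul, map_mul, map_inv π (a ^ i.val), map_pow, ha, (D.map_parts hd).1, ← map_pow,
    ← map_inv, ← map_mul, ← map_mul, T3, conj_tri, (aP_pow _).1, (aP_pow _).2, (aP_pow _).2,
    zero_add, ZMod.natCast_zmod_val]
  rfl

theorem exists_word₁ (ha : π a = emb p k Data.aP) (hd : π d = D.c * emb p k (T3 0))
    (f : Perm (Pt p)) (hf : sign f = 1) :
    ∃ w ∈ Subgroup.closure (Set.range (xs (p := p) a d)), π w = emb p k f := by
  have hmem : emb p k f ∈ (Subgroup.closure (Set.range (xs (p := p) a d))).map π := by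
    have h : f ∈ alternatingGroup (Pt p) := Equiv.Perm.mem_alternatingGroup.2 hf
    rw [← closure_tri (Sum.inr false) (Sum.inr true) (by simp)] at h
    have h2 := Subgroup.mem_map_of_mem (emb p k) h
    rw [MonoidHom.map_closure] at h2 ⊢
    refine Subgroup.closure_mono ?_ h2
    rintro _ ⟨_, ⟨u, h1, h3, rfl⟩, rfl⟩
    rcases u with i | t
    · exact ⟨_, ⟨i, rfl⟩, D.map_xs ha hd i⟩
    · cases t <;> simp at h1 h3
  exact Subgroup.mem_map.1 hmem

theorem exists_word₂ (ha : π a = emb p k Data.aP) (hd : π d = D.c * emb p k (T3 0))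
    (f : Perm (Pts p k)) (hf : sign f = 1) :
    ∃ w ∈ Subgroup.closure (Set.range (xs (p := p) a d) ∪
      Set.range fun i : ZMod p => d ^ 3 * xs a d i * (d ^ 3)⁻¹), π w = f := by
  have hmem : f ∈ (Subgroup.closure (Set.range (xs (p := p) a d) ∪
      Set.range fun i : ZMod p => d ^ 3 * xs a d i * (d ^ 3)⁻¹)).map π := by
    have h : f ∈ alternatingGroup (Pts p k) := Equiv.Perm.mem_alternatingGroup.2 hf
    rw [← closure_tri (Sum.inl (Sum.inr false)) (Sum.inl (Sum.inr true)) (by simp)] at h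
    rw [MonoidHom.map_closure]
    refine Subgroup.closure_mono ?_ h
    rintro _ ⟨u, h1, h3, rfl⟩
    rcases u with (i | t) | l
    · exact ⟨_, Or.inl ⟨i, rfl⟩, by rw [D.map_xs ha hd, T3, emb_tri]⟩
    · cases t <;> simp at h1 h3
    · refine ⟨_, Or.inr ⟨D.κ l, rfl⟩, ?_⟩
      rw [map_mul, map_mul, map_inv, (D.map_parts hd).2, D.map_xs ha hd, D.conj_c_T3']
  exact Subgroup.mem_map.1 hmem

end Data

/-- The presentation by seven relations. -/
theorem exists_presentation (D : Data p k) :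
    ∃ rels : Finset (FreeGroup (Fin 3)), rels.card ≤ 7 ∧
      ∃ e : PresentedGroup (↑rels : Set (FreeGroup (Fin 3))) ≃* D.tgt,
        ∀ i, (e (PresentedGroup.of i) : Perm (Pts p k)) = D.gens i := by
  classical
  set A : FreeGroup (Fin 3) := FreeGroup.of 0 with hA
  set B : FreeGroup (Fin 3) := FreeGroup.of 1 with hB
  set E : FreeGroup (Fin 3) := FreeGroup.of 2 with hE
  set φ := FreeGroup.lift D.gens with hφ
  have φA : φ A = emb p k Data.aP := FreeGroup.lift_apply_of
  have φB : φ B = emb p k D.bP := FreeGroup.lift_apply_of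
  have φE : φ E = D.c * emb p k (T3 0) := FreeGroup.lift_apply_of
  obtain ⟨φX, φC⟩ := D.map_parts φE
  have hsb := D.sign_bP
  have hcs := D.c_sign
  obtain ⟨V, hVm, hV⟩ := D.exists_word₁ φA φE (D.bP⁻¹ * D.sh) (by
    rw [map_mul, map_inv, hsb, D.sh_sign]; cases D.alt <;> simp)
  have hsh' : sign D.sh' = sign D.sh := by
    rw [← Data.sign_emb (k := k), ← D.sh_c, map_mul, map_mul, map_inv, Data.sign_emb, mul_comm,
      ← mul_assoc, inv_mul_cancel, one_mul]
  obtain ⟨V', hV'm, hV'⟩ := D.exists_word₁ φA φE ((D.bP ^ D.e)⁻¹ * D.sh') (by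
    rw [map_mul, map_inv, map_pow, hsb, hsh', D.sh_sign]
    cases halt : D.alt <;> simp [Data.e, halt])
  obtain ⟨σw, hσm, hσ⟩ := D.exists_word₁ φA φE D.σ D.σ_sign
  obtain ⟨τw, hτm, hτ⟩ := D.exists_word₁ φA φE D.τ D.τ_sign
  obtain ⟨W, hWm, hW⟩ := D.exists_word₂ φA φE
    ((emb p k (D.bP ^ D.e))⁻¹ * (emb p k Data.aP)⁻¹ * D.c) (by
      rw [map_mul, map_mul, map_inv, map_inv, Data.sign_emb, Data.sign_emb, map_pow, hsb, hcs,
        D.sign_aP]
      cases halt : D.alt <;> simp [Data.e, halt])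
  let L : List (FreeGroup (Fin 3)) :=
    [A ^ p * (B ^ (p - 1))⁻¹,
      B * A ^ D.s.val * B⁻¹ * (A ^ (D.s - 1).val)⁻¹,
      B * (E ^ 2)⁻¹ * B⁻¹ * (if D.alt then E ^ 2 else (E ^ 2)⁻¹)⁻¹,
      ((E ^ 2)⁻¹ * (A * (E ^ 2)⁻¹ * A⁻¹)) ^ 2 * ((E ^ 2)⁻¹ ^ 3)⁻¹,
      E ^ 3 * (B * V) * (E ^ 3)⁻¹ * (B ^ D.e * V')⁻¹,
      σw * (E ^ 3 * τw * (E ^ 3)⁻¹) * σw⁻¹ * (E ^ 3 * τw * (E ^ 3)⁻¹)⁻¹ * ((E ^ 2)⁻¹ ^ 3)⁻¹,
      E ^ 3 * (A * B ^ D.e * W)⁻¹]
  have hrel : ∀ r ∈ L, φ r = 1 := by
    intro r hr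
    have hTc : emb p k (T3 (p := p) 0) ^ 3 = 1 := by
      rw [← map_pow, T3, tri_cube (by simp) (by simp) (by simp), map_one]
    simp only [L, List.mem_cons, List.not_mem_nil, or_false] at hr
    rcases hr with rfl | rfl | rfl | rfl | rfl | rfl | rfl
    · rw [map_mul, map_inv, map_pow, map_pow, φA, φB, ← map_pow, ← map_pow, aP_order, D.bP_pow,
        map_one, inv_one, mul_one]
    · rw [map_mul, map_inv, mul_inv_eq_one, map_mul, map_mul, map_inv, map_pow, map_pow, φA, φB,
        ← map_pow, ← map_pow, ← map_inv, ← map_mul, ← map_mul, D.bP_aP]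
    · rw [map_mul, map_inv, mul_inv_eq_one, map_mul, map_mul, map_inv φ B, φX, φB, ← map_inv,
        ← map_mul, ← map_mul, D.bP_T3]
      cases D.alt
      · exact φX.symm
      · rw [if_pos rfl, if_pos rfl, map_inv, ← φX, map_inv, inv_inv]
    · rw [map_mul, map_inv, mul_inv_eq_one, map_pow, map_pow, map_mul, map_mul, map_mul, map_inv φ A,
        φX, φA, ← map_inv, ← map_mul, ← map_mul, ← map_mul, ← map_pow, ← map_pow,
        show Data.aP * T3 (0 : ZMod p) * Data.aP⁻¹ = T3 1 by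
          rw [T3, conj_tri]; simp [Data.aP, T3],
        T3, T3, tri_pair' (by simp) (by simp) (by simp) (by simp) (by simp)
          (by simp [zero_ne_one]), tri_cube (by simp) (by simp) (by simp)]
    · rw [map_mul, map_inv, mul_inv_eq_one, map_mul φ (E ^ 3 * (B * V)), map_mul φ (E ^ 3),
        map_mul φ B, map_inv, φC, φB, hV, map_mul φ _ V', map_pow φ B, φB, hV', ← map_mul,
        mul_inv_cancel_left, ← map_pow, ← map_mul, mul_inv_cancel_left, D.sh_c]
    · rw [map_mul, map_inv, mul_inv_eq_one, map_mul, map_mul, map_mul, map_inv φ σw,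
        map_inv φ (E ^ 3 * τw * (E ^ 3)⁻¹), map_mul, map_mul, map_inv, φC, hσ, hτ, map_pow φ _ 3,
        φX, hTc, D.cross.eq, mul_inv_cancel_right, mul_inv_cancel]
    · rw [map_mul, map_inv, mul_inv_eq_one, φC, map_mul, map_mul, map_pow φ B, φA, φB, hW,
        ← map_pow]
      group
  have hrels : ∀ r ∈ (↑L.toFinset : Set (FreeGroup (Fin 3))), FreeGroup.lift D.gens r = 1 :=
    fun r hr => hrel r (List.mem_toFinset.1 hr)
  set π := PresentedGroup.toGroup hrels with hπ
  set q := PresentedGroup.mk (↑L.toFinset : Set (FreeGroup (Fin 3))) with hq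
  have hcomp : ∀ w, π (q w) = φ w := fun w => rfl
  have hone : ∀ r ∈ L, q r = 1 := fun r hr =>
    PresentedGroup.one_of_mem (Finset.mem_coe.2 (List.mem_toFinset.2 hr))
  have heq : ∀ u v, u * v⁻¹ ∈ L → q u = q v := fun u v h => by
    have := hone _ h
    rwa [map_mul, map_inv, mul_inv_eq_one] at this
  have hxs : ∀ i : ZMod p, q (xs A E i) = xs (q A) (q E) i := fun i => by
    simp only [xs, map_mul, map_inv, map_pow]
  have hmem : ∀ w ∈ Subgroup.closure (Set.range (xs (p := p) A E)),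
      q w ∈ Subgroup.closure (Set.range (xs (p := p) (q A) (q E))) := fun w hw => by
    have := Subgroup.mem_map_of_mem q hw
    rw [MonoidHom.map_closure] at this
    refine Subgroup.closure_mono ?_ this
    rintro _ ⟨_, ⟨i, rfl⟩, rfl⟩
    exact ⟨i, (hxs i).symm⟩
  have S : Sat D π (q A) (q B) (q E) (q V) (q V') (q W) (q σw) (q τw) := by
    refine
      { top := ?_
        πa := φA
        πb := φB
        πd := φE
        r1 := ?_
        r2 := ?_
        r3 := ?_
        r4 := ?_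
        mV := hmem _ hVm
        mV' := hmem _ hV'm
        mσ := hmem _ hσm
        mτ := hmem _ hτm
        mW := ?_
        πV := ?_
        πV' := ?_
        πσ := hσ
        πτ := hτ
        r5 := ?_
        r6 := ?_
        r7 := ?_ }
    · rw [← top_le_iff, ← PresentedGroup.closure_range_of, Subgroup.closure_le]
      rintro _ ⟨i, rfl⟩
      refine Subgroup.subset_closure ?_
      fin_cases i
      · exact Or.inl rfl
      · exact Or.inr (Or.inl rfl)
      · exact Or.inr (Or.inr rfl)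
    · have := heq (A ^ p) (B ^ (p - 1)) (by simp [L])
      simpa only [map_pow] using this
    · have := heq (B * A ^ D.s.val * B⁻¹) (A ^ (D.s - 1).val) (by simp [L])
      simpa only [map_mul, map_inv, map_pow] using this
    · have := heq (B * (E ^ 2)⁻¹ * B⁻¹) (if D.alt then E ^ 2 else (E ^ 2)⁻¹) (by simp [L])
      cases halt : D.alt <;> simpa [halt, map_mul, map_inv, map_pow] using this
    · have := heq (((E ^ 2)⁻¹ * (A * (E ^ 2)⁻¹ * A⁻¹)) ^ 2) ((E ^ 2)⁻¹ ^ 3) (by simp [L])
      simpa only [map_mul, map_inv, map_pow] using this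
    · have := Subgroup.mem_map_of_mem q hWm
      rw [MonoidHom.map_closure] at this
      refine Subgroup.closure_mono ?_ this
      rintro _ ⟨_, ⟨i, rfl⟩ | ⟨i, rfl⟩, rfl⟩
      · exact Or.inl ⟨i, (hxs i).symm⟩
      · refine Or.inr ⟨i, ?_⟩
        simp only [map_mul, map_inv, map_pow, xs]
    · show π (q B * q V) = _
      rw [map_mul, hcomp, hcomp, φB, hV, ← map_mul, mul_inv_cancel_left]
    · show π (q B ^ D.e * q V') = _
      rw [map_mul, map_pow, hcomp, hcomp, φB, hV', ← map_pow, ← map_mul, mul_inv_cancel_left]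
    · have := heq (E ^ 3 * (B * V) * (E ^ 3)⁻¹) (B ^ D.e * V') (by simp [L])
      simpa only [map_mul, map_inv, map_pow] using this
    · have := heq (σw * (E ^ 3 * τw * (E ^ 3)⁻¹) * σw⁻¹ * (E ^ 3 * τw * (E ^ 3)⁻¹)⁻¹)
        ((E ^ 2)⁻¹ ^ 3) (by simp [L])
      simpa only [map_mul, map_inv, map_pow] using this
    · have := heq (E ^ 3) (A * B ^ D.e * W) (by simp [L])
      simpa only [map_mul, map_inv, map_pow] using this
  obtain ⟨hinj, hrange⟩ := S.bijective
  refine ⟨L.toFinset, (List.toFinset_card_le L).trans (by simp [L]),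
    (MonoidHom.ofInjective hinj).trans (MulEquiv.subgroupCongr hrange), fun i => ?_⟩
  show π (PresentedGroup.of i) = _
  exact PresentedGroup.toGroup.of hrels

end CfsgLib.SymPresent
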