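import Mathlib

/-!
A slightly sharpened Bertrand postulate: for `4 ≤ m` some prime lies in `(m, 2m - 3]`.
-/

set_option autoImplicit false

namespace CfsgLib.SymPresent

/-- `8 q + 8 ≤ 2 ^ q` from `6` on. -/
theorem eight_mul_le_two_pow {q : ℕ} (hq : 6 ≤ q) : 8 * q + 8 ≤ 2 ^ q := by
  induction q, hq using Nat.le_induction with
  | base => norm_num
  | succ q hq ih => rw [pow_succ]; omega

theorem succ_sq_pow_le {m : ℕ} (hm : 1152 ≤ m) :
    (2 * m) ^ (Nat.sqrt (2 * m) + 2) * 4 ^ (2 * m / 3) ≤ 4 ^ m := by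
  set s := Nat.sqrt (2 * m) with hs
  have hs1 : s * s ≤ 2 * m := Nat.sqrt_le _
  have hs2 : 2 * m < (s + 1) * (s + 1) := Nat.lt_succ_sqrt _
  have hs48 : 48 ≤ s := Nat.le_sqrt.2 (by omega)
  have hq : s + 1 ≤ 2 ^ (s / 8) := by
    have := eight_mul_le_two_pow (q := s / 8) (by omega)
    omega
  have hexp : 2 * (s / 8) * (s + 2) ≤ 2 * (m - 2 * m / 3) := by
    have h1 : 8 * (s / 8) ≤ s := Nat.mul_div_le s 8
    have h2 : 8 * (2 * (s / 8) * (s + 2)) ≤ 2 * s * (s + 2) := by
      calc 8 * (2 * (s / 8) * (s + 2)) = 2 * (8 * (s / 8)) * (s + 2) := by ring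
        _ ≤ 2 * s * (s + 2) := by gcongr
    have h3 : 2 * s * (s + 2) = 2 * (s * s) + 4 * s := by ring
    have h4 : 48 * s ≤ s * s := Nat.mul_le_mul_right s hs48
    omega
  calc (2 * m) ^ (s + 2) * 4 ^ (2 * m / 3)
      ≤ (2 ^ (s / 8) * 2 ^ (s / 8)) ^ (s + 2) * 4 ^ (2 * m / 3) := by
        refine Nat.mul_le_mul (Nat.pow_le_pow_left ?_ _) le_rfl
        exact hs2.le.trans (Nat.mul_le_mul hq hq)
    _ = 2 ^ (2 * (s / 8) * (s + 2)) * 4 ^ (2 * m / 3) := by
        rw [← pow_add, ← pow_mul, ← two_mul]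
    _ ≤ 2 ^ (2 * (m - 2 * m / 3)) * 4 ^ (2 * m / 3) := by
        gcongr
        norm_num
    _ = 4 ^ m := by
        rw [pow_mul, show (2 : ℕ) ^ 2 = 4 from rfl, ← pow_add]
        congr 1
        omega

/-- For large `m` there is a prime in `(m, 2m - 3]`. -/
theorem exists_prime_gap_large {m : ℕ} (hm : 1152 ≤ m) :
    ∃ p, p.Prime ∧ m < p ∧ p + 3 ≤ 2 * m := by
  by_contra hno
  push Not at hno
  have hlt : 4 ^ m < m * m.centralBinom := Nat.four_pow_lt_mul_centralBinom m (by omega)
  have hfac : ∀ p, p ∈ Finset.range (2 * m + 1) → 2 * m / 3 < p → p ≠ 2 * m - 1 →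
      p ^ m.centralBinom.factorization p = 1 := by
    intro p hp hp3 hp1
    rw [Finset.mem_range] at hp
    by_cases hpp : p.Prime
    · by_cases hle : p ≤ m
      · rw [Nat.factorization_centralBinom_of_two_mul_self_lt_three_mul (by omega) hle (by omega),
          pow_zero]
      · exfalso
        have h1 := hno p hpp (by omega)
        rcases hpp.eq_two_or_odd with h2 | h2 <;> omega
    · rw [Nat.factorization_eq_zero_of_not_prime _ hpp, pow_zero]
  have hbound : m.centralBinom ≤ (2 * m) ^ (Nat.sqrt (2 * m) + 1) * 4 ^ (2 * m / 3) := by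
    let f : ℕ → ℕ := fun p => p ^ m.centralBinom.factorization p
    have htot : ∏ p ∈ Finset.range (2 * m + 1), f p = m.centralBinom :=
      m.prod_pow_factorization_centralBinom
    let S := {p ∈ Finset.range (2 * m / 3 + 1) | Nat.Prime p}
    have hsub : ∏ p ∈ insert (2 * m - 1) S, f p = ∏ p ∈ Finset.range (2 * m + 1), f p := by
      refine Finset.prod_subset ?_ ?_
      · intro p hp
        simp only [Finset.mem_insert, S, Finset.mem_filter, Finset.mem_range] at hp ⊢
        omega
      · intro p hp hpS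
        simp only [Finset.mem_insert, S, Finset.mem_filter, Finset.mem_range, not_or, not_and]
          at hpS
        rcases Nat.lt_or_ge (2 * m / 3) p with h | h
        · exact hfac p hp h hpS.1
        · simp only [f]
          rw [Nat.factorization_eq_zero_of_not_prime _ (hpS.2 (by omega)), pow_zero]
    have hnot : 2 * m - 1 ∉ S := by
      simp only [S, Finset.mem_filter, Finset.mem_range]
      omega
    rw [← htot, ← hsub, Finset.prod_insert hnot, pow_succ']
    rw [mul_assoc]
    refine Nat.mul_le_mul ?_ ?_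
    · exact Nat.pow_factorization_choose_le (by omega)
    rw [← Finset.prod_filter_mul_prod_filter_not S (· ≤ Nat.sqrt (2 * m))]
    refine Nat.mul_le_mul ?_ ?_
    · refine (Finset.prod_le_prod' fun p _ => (Nat.pow_factorization_choose_le (by omega) :
        f p ≤ 2 * m)).trans ?_
      rw [Finset.prod_const]
      refine Nat.pow_le_pow_right (by omega) ((Finset.card_le_card (fun x hx => ?_)).trans
        (Nat.card_Icc 1 (Nat.sqrt (2 * m))).le |>.trans (by omega))
      obtain ⟨h1, h2⟩ := Finset.mem_filter.1 hx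
      exact Finset.mem_Icc.2 ⟨(Finset.mem_filter.1 h1).2.one_lt.le, h2⟩
    · refine le_trans ?_ (primorial_le_four_pow (2 * m / 3))
      refine (Finset.prod_le_prod' fun p hp => (?_ : f p ≤ p)).trans ?_
      · obtain ⟨h1, h2⟩ := Finset.mem_filter.1 hp
        refine (Nat.pow_le_pow_right (Finset.mem_filter.1 h1).2.pos ?_).trans (pow_one p).le
        exact Nat.factorization_choose_le_one (Nat.sqrt_lt'.mp <| not_le.1 h2)
      exact Finset.prod_le_prod_of_subset_of_one_le' (Finset.filter_subset _ _)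
        fun p hp _ => (Finset.mem_filter.1 hp).2.one_lt.le
  have h2 := succ_sq_pow_le hm
  have h3 : m * ((2 * m) ^ (Nat.sqrt (2 * m) + 1) * 4 ^ (2 * m / 3)) ≤ 4 ^ m := by
    refine le_trans ?_ h2
    rw [← mul_assoc]
    refine Nat.mul_le_mul ?_ le_rfl
    calc m * (2 * m) ^ (Nat.sqrt (2 * m) + 1) ≤ (2 * m) * (2 * m) ^ (Nat.sqrt (2 * m) + 1) :=
          Nat.mul_le_mul (by omega) le_rfl
      _ = (2 * m) ^ (Nat.sqrt (2 * m) + 2) := (pow_succ' _ _).symm
  have h4 := Nat.mul_le_mul_left m hbound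
  omega

theorem prime_gap_step {m : ℕ} (q : ℕ) {p : ℕ} (hp : p.Prime) (hcov : p + 3 ≤ 2 * q)
    (H : m < q → ∃ r, r.Prime ∧ m < r ∧ r + 3 ≤ 2 * m) (hm : m < p) :
    ∃ r, r.Prime ∧ m < r ∧ r + 3 ≤ 2 * m := by
  rcases Nat.lt_or_ge m q with h | h
  · exact H h
  · exact ⟨p, hp, hm, by omega⟩

/-- For `4 ≤ m` there is a prime in `(m, 2m - 3]`. -/
theorem exists_prime_gap (m : ℕ) (hm : 4 ≤ m) : ∃ p, p.Prime ∧ m < p ∧ p + 3 ≤ 2 * m := by
  rcases Nat.lt_or_ge m 1152 with h | h
  · have h' : m < 1153 := by omega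
    revert h'
    refine prime_gap_step 578 (by norm_num : Nat.Prime 1153) (by norm_num) ?_
    intro h2
    have h' : m < 587 := by omega
    revert h'
    refine prime_gap_step 295 (by norm_num : Nat.Prime 587) (by norm_num) ?_
    intro h2
    have h' : m < 307 := by omega
    revert h'
    refine prime_gap_step 155 (by norm_num : Nat.Prime 307) (by norm_num) ?_
    intro h2
    have h' : m < 157 := by omega
    revert h'
    refine prime_gap_step 80 (by norm_num : Nat.Prime 157) (by norm_num) ?_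
    intro h2
    have h' : m < 83 := by omega
    revert h'
    refine prime_gap_step 43 (by norm_num : Nat.Prime 83) (by norm_num) ?_
    intro h2
    have h' : m < 43 := by omega
    revert h'
    refine prime_gap_step 23 (by norm_num : Nat.Prime 43) (by norm_num) ?_
    intro h2
    have h' : m < 23 := by omega
    revert h'
    refine prime_gap_step 13 (by norm_num : Nat.Prime 23) (by norm_num) ?_
    intro h2
    have h' : m < 13 := by omega
    revert h'
    refine prime_gap_step 8 (by norm_num : Nat.Prime 13) (by norm_num) ?_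
    intro h2
    have h' : m < 11 := by omega
    revert h'
    refine prime_gap_step 7 (by norm_num : Nat.Prime 11) (by norm_num) ?_
    intro h2
    have h' : m < 7 := by omega
    revert h'
    refine prime_gap_step 5 (by norm_num : Nat.Prime 7) (by norm_num) ?_
    intro h2
    exact ⟨5, by norm_num, by omega, by omega⟩
  · exact exists_prime_gap_large h

/-- The prime used to split `n` points: `n = (p + 2) + k` with `k ≤ p - 4`, or `k = 0`. -/
theorem exists_split (n : ℕ) (hn : 5 ≤ n) (h6 : n ≠ 6) :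
    ∃ p k, p.Prime ∧ p ≠ 2 ∧ p + 2 + k = n ∧ (k = 0 ∨ k + 4 ≤ p) := by
  by_cases h5 : n = 5
  · exact ⟨3, 0, by norm_num, by norm_num, by omega, Or.inl rfl⟩
  by_cases h7 : n = 7
  · exact ⟨5, 0, by norm_num, by norm_num, by omega, Or.inl rfl⟩
  by_cases h8 : n = 8
  · exact ⟨5, 1, by norm_num, by norm_num, by omega, Or.inr le_rfl⟩
  obtain ⟨p, hp, h1, h2⟩ := exists_prime_gap ((n + 1) / 2) (by omega)
  refine ⟨p, n - (p + 2), hp, by omega, by omega, Or.inr (by omega)⟩

end CfsgLib.SymPresent
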