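import Cfsg.Agent.Lib.SymPresent.Build
import Cfsg.Agent.Lib.SymPresent.PrimeGap

/-!
The permutation data exist whenever `n = p + 2 + k` with `k = 0` or `k + 4 ≤ p`.
-/

set_option autoImplicit false

namespace CfsgLib.SymPresent

open Equiv Equiv.Perm

/-- A product of disjoint transpositions. -/
theorem list_swaps {Ω α : Type*} [DecidableEq Ω] (f g : α → Ω) (hf : Function.Injective f)
    (hg : Function.Injective g) (hfg : ∀ a b, f a ≠ g b) (L : List α) (hL : L.Nodup) :
    (∀ l ∈ L, (L.map fun l => swap (f l) (g l)).prod (f l) = g l ∧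
      (L.map fun l => swap (f l) (g l)).prod (g l) = f l) ∧
      ∀ x, (∀ l ∈ L, x ≠ f l ∧ x ≠ g l) → (L.map fun l => swap (f l) (g l)).prod x = x := by
  induction L with
  | nil => simp
  | cons a L ih =>
    rw [List.nodup_cons] at hL
    obtain ⟨ih1, ih2⟩ := ih hL.2
    set P := (L.map fun l => swap (f l) (g l)).prod
    simp only [List.map_cons, List.prod_cons, Perm.mul_apply, List.mem_cons, forall_eq_or_imp]
    refine ⟨⟨⟨?_, ?_⟩, fun l hl => ?_⟩, fun x hx => ?_⟩
    · rw [ih2 _ fun l hl => ⟨fun e => hL.1 (by rw [hf e]; exact hl), hfg a l⟩, swap_apply_left]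
    · rw [ih2 _ fun l hl => ⟨(hfg l a).symm, fun e => hL.1 (by rw [hg e]; exact hl)⟩, swap_apply_right]
    · have hla : l ≠ a := fun e => hL.1 (e ▸ hl)
      rw [(ih1 l hl).1, (ih1 l hl).2]
      exact ⟨swap_apply_of_ne_of_ne (hfg a l).symm (fun e => hla (hg e)),
        swap_apply_of_ne_of_ne (fun e => hla (hf e)) (hfg l a)⟩
    · rw [ih2 x hx.2, swap_apply_of_ne_of_ne hx.1.1 hx.1.2]

theorem sumCongr_pow {α β : Type*} (f : Perm α) (t : Perm β) (r : ℕ) :
    (Equiv.sumCongr f t : Perm (α ⊕ β)) ^ r = Equiv.sumCongr (f ^ r) (t ^ r) := by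
  induction r with
  | zero => ext u; rcases u with u | u <;> rfl
  | succ r ih =>
    rw [pow_succ, pow_succ, pow_succ, ih]
    ext u
    rcases u with u | u <;> rfl

theorem bool_swap_pow (r : ℕ) :
    (swap false true : Perm Bool) ^ r = 1 ∨ (swap false true : Perm Bool) ^ r = swap false true := by
  induction r with
  | zero => exact Or.inl rfl
  | succ r ih =>
    rcases ih with h | h
    · exact Or.inr (by rw [pow_succ, h, one_mul])
    · exact Or.inl (by rw [pow_succ, h, swap_mul_self])

variable {p k : ℕ}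

/-- The permutation data exist. -/
theorem exists_data [Fact p.Prime] (hp2 : p ≠ 2) (hk : k = 0 ∨ k + 4 ≤ p) (alt : Bool) :
    ∃ D : Data p k, D.alt = alt := by
  classical
  have hp3 : 3 ≤ p := by
    have := (Fact.out : p.Prime).two_le
    omega
  obtain ⟨m₀, hm₀⟩ : Odd p := (Fact.out : p.Prime).odd_of_ne_two hp2
  have hN3 : 3 ≤ p - k := by omega
  have hNk : k ≠ 0 → 4 ≤ p - k := by omega
  set N := p - k with hN
  have hval : ∀ n : ℕ, n < p → ((n : ZMod p)).val = n := fun n h => ZMod.val_natCast_of_lt h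
  -- the generator
  obtain ⟨g, hg⟩ := IsCyclic.exists_generator (α := (ZMod p)ˣ)
  have hg' : ∀ u : (ZMod p)ˣ, ∃ r : ℕ, g ^ r = u := fun u =>
    Submonoid.mem_powers_iff _ _ |>.1 (mem_powers_iff_mem_zpowers.2 (hg u))
  have hg1 : (g : ZMod p) ≠ 1 := by
    intro h
    obtain rfl : g = 1 := Units.ext h
    obtain ⟨r, hr⟩ := hg' (-1)
    rw [one_pow] at hr
    have h2 : ((2 : ℕ) : ZMod p) = 0 := by
      have := congrArg Units.val hr
      rw [Units.val_one, Units.val_neg, Units.val_one] at this
      push_cast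
      linear_combination this
    rw [ZMod.natCast_eq_zero_iff] at h2
    have := Nat.le_of_dvd (by omega) h2
    omega
  -- the glued points
  let κ : Fin k → ZMod p := fun l => ((N + l.val : ℕ) : ZMod p)
  have hκv : ∀ l : Fin k, (κ l).val = N + l.val := fun l => hval _ (by have := l.isLt; omega)
  have hκ : Function.Injective κ := fun l l' h => Fin.ext (by
    have := congrArg ZMod.val h
    rw [hκv, hκv] at this
    omega)
  have havoid : ∀ i : ZMod p, (∀ l, κ l ≠ i) ↔ i.val < N := by
    intro i
    refine ⟨fun h => ?_, fun h l e => ?_⟩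
    · by_contra hc
      have hlt := ZMod.val_lt i
      refine h ⟨i.val - N, by omega⟩ (ZMod.val_injective p ?_)
      rw [hκv]
      show N + (i.val - N) = i.val
      omega
    · have := congrArg ZMod.val e
      rw [hκv] at this
      omega
  -- the transposition inside the first points
  set pp : Bool := (decide (k % 2 = 1)) == alt with hpp
  let sw : Perm (ZMod p) := if pp then swap ((1 : ℕ) : ZMod p) ((2 : ℕ) : ZMod p) else 1
  have hsw_inv : ∀ i, sw (sw i) = i := fun i => by
    simp only [sw]; cases pp <;> simp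
  have hsw_small : ∀ i : ZMod p, i.val < N → (sw i).val < N := by
    intro i hi
    simp only [sw]
    cases pp
    · simpa using hi
    · simp only [if_true]
      rcases swap_apply_def ((1 : ℕ) : ZMod p) ((2 : ℕ) : ZMod p) i with h
      rw [h]
      split_ifs
      · rw [hval 2 (by omega)]; omega
      · rw [hval 1 (by omega)]; omega
      · exact hi
  have hsw0 : sw 0 = 0 := by
    simp only [sw]
    cases pp
    · rfl
    · refine swap_apply_of_ne_of_ne ?_ ?_ <;> intro h <;> have := congrArg ZMod.val h <;>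
        rw [ZMod.val_zero, hval _ (by omega)] at this <;> omega
  let P1 : Perm (Pt p) := Equiv.sumCongr sw 1
  let fo : Fin k → Pts p k := fun l => Sum.inl (Sum.inl (κ l))
  let P : Perm (Pts p k) := ((List.finRange k).map fun l => swap (fo l) (Sum.inr l)).prod
  obtain ⟨hP1, hP2⟩ := list_swaps fo (fun l => (Sum.inr l : Pts p k))
    (fun a b h => hκ (Sum.inl_injective (Sum.inl_injective h))) Sum.inr_injective
    (fun a b => Sum.inl_ne_inr) (List.finRange k) (List.nodup_finRange k)
  have hPfix : ∀ u : Pt p, (∀ l, u ≠ Sum.inl (κ l)) → P (Sum.inl u) = Sum.inl u := fun u hu =>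
    hP2 _ fun l _ => ⟨fun e => hu l (Sum.inl_injective e), Sum.inl_ne_inr⟩
  let c : Perm (Pts p k) := P * emb p k P1
  have hswκ : ∀ l, sw (κ l) = κ l := by
    intro l
    simp only [sw]
    cases pp
    · rfl
    · refine swap_apply_of_ne_of_ne ?_ ?_ <;> intro h <;> have := congrArg ZMod.val h <;>
        rw [hκv, hval _ (by omega)] at this <;> omega
  have hc_inf : ∀ t, c (Sum.inl (Sum.inr t)) = Sum.inl (Sum.inr t) := fun t => by
    show P (Sum.inl (Sum.inr t)) = _
    exact hPfix _ fun l => Sum.inr_ne_inl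
  have hc_old : ∀ l, c (Sum.inl (Sum.inl (κ l))) = Sum.inr l := fun l => by
    show P (Sum.inl (Sum.inl (sw (κ l)))) = _
    rw [hswκ]
    exact (hP1 l (List.mem_finRange l)).1
  have hc_new : ∀ l, c (Sum.inr l) = Sum.inl (Sum.inl (κ l)) := fun l =>
    (hP1 l (List.mem_finRange l)).2
  have hc_fix : ∀ i, (∀ l, κ l ≠ i) → c (Sum.inl (Sum.inl i)) = Sum.inl (Sum.inl (sw i)) := by
    intro i hi
    show P (Sum.inl (Sum.inl (sw i))) = _
    refine hPfix _ fun l e => ?_
    exact (havoid _).2 (hsw_small i ((havoid i).1 hi)) l (Sum.inl_injective e).symm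
  have hsw_sign : sign sw = if pp then -1 else 1 := by
    simp only [sw]
    cases pp
    · simp
    · simp only [if_true]
      refine sign_swap fun h => ?_
      have := congrArg ZMod.val h
      rw [hval _ (by omega), hval _ (by omega)] at this
      omega
  have hsign_emb : ∀ f : Perm (Pt p), sign (emb p k f) = sign f := fun f => by
    show sign (Equiv.Perm.sumCongr f 1) = _
    rw [Equiv.Perm.sign_sumCongr, Equiv.Perm.sign_one, mul_one]
  have hc_sign : sign c = if alt then 1 else -1 := by
    have hPs : sign P = (-1) ^ k := by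
      simp only [P]
      rw [map_list_prod, List.map_map,
        List.map_congr_left (f := ⇑sign ∘ fun l => swap (fo l) (Sum.inr l))
          (g := fun _ => (-1 : ℤˣ)) (fun l _ => sign_swap (Sum.inl_ne_inr : fo l ≠ Sum.inr l)),
        List.map_const', List.prod_replicate, List.length_finRange]
    have hP1s : sign P1 = sign sw := by
      show sign (Equiv.Perm.sumCongr sw 1) = _
      rw [Equiv.Perm.sign_sumCongr, Equiv.Perm.sign_one, mul_one]
    rw [map_mul, hPs, hsign_emb, hP1s, hsw_sign, hpp]
    rcases Nat.even_or_odd k with hk' | hk'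
    · rw [hk'.neg_one_pow, decide_eq_false (by have := Nat.even_iff.1 hk'; omega)]
      cases alt <;> simp
    · rw [hk'.neg_one_pow, decide_eq_true (Nat.odd_iff.1 hk')]
      cases alt <;> simp
  -- the cycle on the fixed points
  let J : Finset (ZMod p) := Finset.univ.filter fun i => i.val < N
  have hJmem : ∀ i, i ∈ J ↔ i.val < N := fun i => by simp [J]
  obtain ⟨f, hf1, hf2, hf3, hf4, -⟩ := exists_cyc J ⟨0, (hJmem 0).2 (by rw [ZMod.val_zero]; omega)⟩
  set tt : Bool := decide ((J.card - 1) % 2 = 1) == alt with htt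
  let t : Perm Bool := if tt then swap false true else 1
  let sh : Perm (Pt p) := Equiv.sumCongr f t
  have hsh_sign : sign sh = if alt then 1 else -1 := by
    show sign (Equiv.Perm.sumCongr f t) = _
    rw [Equiv.Perm.sign_sumCongr, hf4]
    have ht : sign t = if tt then -1 else 1 := by
      simp only [t]; cases tt <;> simp
    rw [ht, htt]
    rcases Nat.even_or_odd (J.card - 1) with hk' | hk'
    · rw [hk'.neg_one_pow, decide_eq_false (by have := Nat.even_iff.1 hk'; omega)]
      cases alt <;> simp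
    · rw [hk'.neg_one_pow, decide_eq_true (Nat.odd_iff.1 hk')]
      cases alt <;> simp
  have hcomm : Commute P (emb p k sh) := by
    refine Equiv.Perm.Disjoint.commute fun u => ?_
    rcases u with (i | t') | l
    · by_cases h : i.val < N
      · exact Or.inl (hPfix _ fun l e => (havoid i).2 h l (Sum.inl_injective e).symm)
      · refine Or.inr ?_
        show Sum.inl (Sum.inl (f i)) = _
        rw [hf1 i fun e => h ((hJmem i).1 e)]
    · exact Or.inl (hPfix _ fun l => Sum.inr_ne_inl)
    · exact Or.inr rfl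
  let sh' : Perm (Pt p) := P1 * sh * P1⁻¹
  have hsh_c : c * emb p k sh * c⁻¹ = emb p k sh' := by
    have hcomm' : Commute P (emb p k sh') := by
      refine Equiv.Perm.Disjoint.commute fun u => ?_
      rcases u with (i | t') | l
      · by_cases h : i.val < N
        · exact Or.inl (hPfix _ fun l e => (havoid i).2 h l (Sum.inl_injective e).symm)
        · refine Or.inr ?_
          have hi : sw i = i := by
            obtain ⟨l, rfl⟩ : ∃ l, κ l = i := by
              by_contra hne
              push Not at hne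
              exact h ((havoid i).1 hne)
            exact hswκ l
          have hP1i : P1⁻¹ (Sum.inl i) = Sum.inl i := by
            rw [Equiv.Perm.inv_eq_iff_eq]
            show Sum.inl i = Sum.inl (sw i)
            rw [hi]
          show Sum.inl (P1 (sh (P1⁻¹ (Sum.inl i)))) = _
          rw [hP1i]
          show Sum.inl (P1 (Sum.inl (f i))) = _
          rw [hf1 i fun e => h ((hJmem i).1 e)]
          show Sum.inl (Sum.inl (sw i)) = _
          rw [hi]
      · exact Or.inl (hPfix _ fun l => Sum.inr_ne_inl)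
      · exact Or.inr rfl
    calc c * emb p k sh * c⁻¹ = P * emb p k sh' * P⁻¹ := by
          simp only [c, sh', map_mul, map_inv]; group
      _ = emb p k sh' := by rw [hcomm'.eq, mul_inv_cancel_right]
  have hsh_reach : ∀ i, (∀ l, κ l ≠ i) → ∃ r : ℕ, (sh ^ r) (Sum.inl 0) = Sum.inl i ∧
      (((sh ^ r) (Sum.inr false) = Sum.inr false ∧ (sh ^ r) (Sum.inr true) = Sum.inr true) ∨
        ((sh ^ r) (Sum.inr false) = Sum.inr true ∧ (sh ^ r) (Sum.inr true) = Sum.inr false)) := by
    intro i hi
    obtain ⟨r, hr⟩ := hf3 0 ((hJmem 0).2 (by rw [ZMod.val_zero]; omega)) i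
      ((hJmem i).2 ((havoid i).1 hi))
    refine ⟨r, ?_, ?_⟩
    · rw [sumCongr_pow]
      exact congrArg Sum.inl hr
    · rw [sumCongr_pow]
      show (Sum.inr ((t ^ r) false) = _ ∧ Sum.inr ((t ^ r) true) = _) ∨
        (Sum.inr ((t ^ r) false) = _ ∧ Sum.inr ((t ^ r) true) = _)
      simp only [t]
      cases tt
      · exact Or.inl (by simp)
      · simp only [if_true]
        rcases bool_swap_pow r with h | h <;> rw [h]
        · exact Or.inl ⟨rfl, rfl⟩
        · exact Or.inr ⟨rfl, rfl⟩
  have hzero : ∀ l, κ l ≠ 0 := (havoid 0).2 (by rw [ZMod.val_zero]; omega)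
  have hswp_avoid : ∀ i, (∀ l, κ l ≠ i) → ∀ l, κ l ≠ sw i := fun i hi =>
    (havoid _).2 (hsw_small i ((havoid i).1 hi))
  by_cases hk0 : k = 0
  · refine ⟨⟨alt, g, hg', hg1, κ, hκ, sw, c, hc_inf, hc_old, hc_new, hc_fix, hswp_avoid, hsw_inv,
      hsw0, hzero, hc_sign, sh, sh', hsh_c, hsh_sign, hsh_reach, 1, 1, 1, odd_one, one_pow 1,
      map_one _, map_one _, fun _ => rfl, fun _ => rfl, ?_, 0, 0, hzero, hzero,
      fun h => absurd hk0 h.ne', fun l => (Fin.cast hk0 l).elim0, fun l => (Fin.cast hk0 l).elim0,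
      fun h => absurd hk0 h.ne', fun h => absurd hk0 h.ne'⟩, rfl⟩
    rw [map_one]
    exact Commute.one_left _
  -- the two long cycles
  have h4 : 4 ≤ N := hNk hk0
  set j₁ : Finset ℕ := if k % 2 = 1 then {0, 1} else {0} with hj₁
  set j₂ : Finset ℕ := if k % 2 = 1 then {2, 3} else {2} with hj₂
  have hj₁' : ∀ x ∈ j₁, x < 2 := by rw [hj₁]; split_ifs <;> simp
  have hj₂' : ∀ x ∈ j₂, 2 ≤ x ∧ x < 4 := by rw [hj₂]; split_ifs <;> simp
  let K : Finset (ZMod p) := Finset.univ.image κ
  let S1 : Finset (ZMod p) := K ∪ j₁.image fun n : ℕ => (n : ZMod p)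
  let S2 : Finset (ZMod p) := K ∪ j₂.image fun n : ℕ => sw (n : ZMod p)
  have hK : ∀ x : ℕ, x < 4 → (∀ l, κ l ≠ ((x : ℕ) : ZMod p)) := fun x hx =>
    (havoid _).2 (by rw [hval x (by omega)]; omega)
  have hS1c : S1.card = k + j₁.card := by
    rw [Finset.card_union_of_disjoint, Finset.card_image_of_injective _ hκ, Finset.card_univ,
      Fintype.card_fin, Finset.card_image_of_injOn]
    · intro x hx y hy e
      have := congrArg ZMod.val e
      have hx' := hj₁' x hx
      have hy' := hj₁' y hy
      rwa [hval x (by omega), hval y (by omega)] at this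
    · rw [Finset.disjoint_left]
      simp only [K, Finset.mem_image, Finset.mem_univ, true_and]
      rintro _ ⟨l, rfl⟩ ⟨x, hx, e⟩
      exact hK x (by have := hj₁' x hx; omega) l e.symm
  have hS2c : S2.card = k + j₂.card := by
    rw [Finset.card_union_of_disjoint, Finset.card_image_of_injective _ hκ, Finset.card_univ,
      Fintype.card_fin, Finset.card_image_of_injOn]
    · intro x hx y hy e
      have := congrArg ZMod.val (sw.injective e)
      have hx' := (hj₂' x hx).2
      have hy' := (hj₂' y hy).2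
      rwa [hval x (by omega), hval y (by omega)] at this
    · rw [Finset.disjoint_left]
      simp only [K, Finset.mem_image, Finset.mem_univ, true_and]
      rintro _ ⟨l, rfl⟩ ⟨x, hx, e⟩
      exact hswp_avoid _ (hK x (hj₂' x hx).2) l e.symm
  have hodd1 : Odd S1.card := by
    rw [hS1c, hj₁, Nat.odd_iff]
    split_ifs <;> simp <;> omega
  have hodd2 : Odd S2.card := by
    rw [hS2c, hj₂, Nat.odd_iff]
    split_ifs <;> simp <;> omega
  have h0m : (0 : ℕ) ∈ j₁ := by rw [hj₁]; split_ifs <;> simp
  have h2m : (2 : ℕ) ∈ j₂ := by rw [hj₂]; split_ifs <;> simp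
  have h0S : ((0 : ℕ) : ZMod p) ∈ S1 := Finset.mem_union_right _ (Finset.mem_image_of_mem _ h0m)
  have h2S : sw ((2 : ℕ) : ZMod p) ∈ S2 :=
    Finset.mem_union_right _ (Finset.mem_image_of_mem _ h2m)
  obtain ⟨f₁, ha1, ha2, ha3, ha4, ha5⟩ := exists_cyc S1 ⟨_, h0S⟩
  obtain ⟨f₂, hb1, hb2, hb3, hb4, hb5⟩ := exists_cyc S2 ⟨_, h2S⟩
  let σ : Perm (Pt p) := Equiv.sumCongr f₁ 1
  let τ : Perm (Pt p) := Equiv.sumCongr f₂ 1
  have hsgn : ∀ (h : Perm (ZMod p)) (S : Finset (ZMod p)), Odd S.card →
      sign h = (-1) ^ (S.card - 1) → sign (Equiv.Perm.sumCongr h (1 : Perm Bool)) = 1 := by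
    intro h S hS hh
    obtain ⟨q, hq⟩ := hS
    rw [Equiv.Perm.sign_sumCongr, Equiv.Perm.sign_one, mul_one, hh, hq, Nat.add_sub_cancel,
      pow_mul, neg_one_sq, one_pow]
  have hcross : Commute (emb p k σ) (c * emb p k τ * c⁻¹) := by
    refine Equiv.Perm.Disjoint.commute fun u => ?_
    have hcinv : ∀ u v, c u = v → c⁻¹ v = u := fun u v h => by
      rw [Equiv.Perm.inv_eq_iff_eq]; exact h.symm
    rcases u with (i | t') | l
    · by_cases h : i ∈ S1
      · refine Or.inr ?_
        simp only [S1, K, Finset.mem_union, Finset.mem_image, Finset.mem_univ, true_and] at h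
        rcases h with ⟨l, rfl⟩ | ⟨x, hx, rfl⟩
        · rw [Perm.mul_apply, Perm.mul_apply, hcinv _ _ (hc_new l)]
          show c (Sum.inr l) = _
          rw [hc_new]
        · have hx4 : x < 4 := by have := hj₁' x hx; omega
          have e := hc_fix _ (hswp_avoid _ (hK x hx4))
          rw [hsw_inv] at e
          rw [Perm.mul_apply, Perm.mul_apply, hcinv _ _ e]
          show c (Sum.inl (Sum.inl (f₂ (sw _)))) = _
          rw [hb1, e]
          simp only [S2, K, Finset.mem_union, Finset.mem_image, Finset.mem_univ, true_and]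
          rintro (⟨l, hl⟩ | ⟨y, hy, hl⟩)
          · exact hswp_avoid _ (hK x hx4) l hl
          · have := congrArg ZMod.val (sw.injective hl)
            have hy' := hj₂' y hy
            have hx' := hj₁' x hx
            rw [hval y (by omega), hval x (by omega)] at this
            omega
      · exact Or.inl (by
          show Sum.inl (Sum.inl (f₁ i)) = _
          rw [ha1 i h])
    · exact Or.inl rfl
    · exact Or.inl rfl
  refine ⟨⟨alt, g, hg', hg1, κ, hκ, sw, c, hc_inf, hc_old, hc_new, hc_fix, hswp_avoid, hsw_inv,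
    hsw0, hzero, hc_sign, sh, sh', hsh_c, hsh_sign, hsh_reach, σ, τ, S1.card, hodd1, ?_,
    hsgn _ _ hodd1 ha4, hsgn _ _ hodd2 hb4, fun _ => rfl, fun _ => rfl, hcross,
    ((0 : ℕ) : ZMod p), sw ((2 : ℕ) : ZMod p), hK 0 (by norm_num),
    hswp_avoid _ (hK 2 (by norm_num)), ?_, ?_, ?_, ?_, ?_⟩, rfl⟩
  · rw [sumCongr_pow, ha5, one_pow]
    exact Equiv.sumCongr_refl
  · intro _ h
    rw [hsw_inv] at h
    have := congrArg ZMod.val h
    rw [hval 0 (by omega), hval 2 (by omega)] at this
    omega
  · intro l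
    obtain ⟨r, hr⟩ := ha3 _ h0S (κ l)
      (Finset.mem_union_left _ (Finset.mem_image_of_mem _ (Finset.mem_univ l)))
    refine ⟨r, ?_⟩
    rw [sumCongr_pow]
    exact congrArg Sum.inl hr
  · intro l
    obtain ⟨r, hr⟩ := hb3 _ h2S (κ l)
      (Finset.mem_union_left _ (Finset.mem_image_of_mem _ (Finset.mem_univ l)))
    refine ⟨r, ?_⟩
    rw [sumCongr_pow]
    exact congrArg Sum.inl hr
  · intro _
    rw [hsw_inv]
    show Sum.inl (f₁ _) = _
    rw [ha1]
    simp only [S1, K, Finset.mem_union, Finset.mem_image, Finset.mem_univ, true_and]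
    rintro (⟨l, hl⟩ | ⟨y, hy, hl⟩)
    · exact hK 2 (by norm_num) l hl
    · have := congrArg ZMod.val hl
      have hy' := hj₁' y hy
      rw [hval y (by omega), hval 2 (by omega)] at this
      omega
  · intro _
    rw [Nat.cast_zero, hsw0]
    show Sum.inl (f₂ _) = _
    rw [hb1]
    simp only [S2, K, Finset.mem_union, Finset.mem_image, Finset.mem_univ, true_and]
    rintro (⟨l, hl⟩ | ⟨y, hy, hl⟩)
    · exact hzero l hl
    · rw [← hsw0] at hl
      have := congrArg ZMod.val (sw.injective hl)
      have hy' := hj₂' y hy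
      rw [hval y (by omega), ZMod.val_zero] at this
      omega

end CfsgLib.SymPresent
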