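import Cfsg.Agent.Lib.SymPresent.Perms

/-!
The seven relations on three generators: every group satisfying them has the order of the
symmetric, respectively alternating, group of degree `p + 2 + k`.

The generators are `a` (a translation of `ZMod p`), `b` (a multiplication) and `d`, the product of
the three-cycle `x = (0 ∞ ∞')` with a commuting involution `c` gluing `k` further points.
-/

set_option autoImplicit false

namespace CfsgLib.SymPresent

open Equiv Equiv.Perm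

/-- The first `p + 2` points. -/
abbrev Pt (p : ℕ) := ZMod p ⊕ Bool

/-- All `p + 2 + k` points. -/
abbrev Pts (p k : ℕ) := Pt p ⊕ Fin k

variable {p k : ℕ}

/-- The three-cycle `(i ∞ ∞')`. -/
def T3 (i : ZMod p) : Perm (Pt p) := tri (Sum.inr false) (Sum.inr true) (Sum.inl i)

/-- Extend a permutation of the first points to all points. -/
def emb (p k : ℕ) : Perm (Pt p) →* Perm (Pts p k) where
  toFun f := Equiv.sumCongr f 1
  map_one' := Equiv.sumCongr_refl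
  map_mul' f g := Equiv.ext fun u => by rcases u with u | l <;> rfl

theorem emb_apply_inl (f : Perm (Pt p)) (u : Pt p) : emb p k f (Sum.inl u) = Sum.inl (f u) := rfl

theorem emb_apply_inr (f : Perm (Pt p)) (l : Fin k) : emb p k f (Sum.inr l) = Sum.inr l := rfl

theorem emb_injective : Function.Injective (emb p k) := fun f g h => by
  ext u
  exact Sum.inl_injective (Equiv.congr_fun h (Sum.inl u))

theorem emb_tri (a b i : Pt p) :
    emb p k (tri a b i) = tri (Sum.inl a) (Sum.inl b) (Sum.inl i) := by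
  rw [tri, map_mul]
  show Equiv.sumCongr (swap i a) (Equiv.refl _) * Equiv.sumCongr (swap a b) (Equiv.refl _) = _
  simp only [Equiv.Perm.sumCongr_swap_refl, tri]

/-- The permutation data of a presentation. -/
structure Data (p k : ℕ) [Fact p.Prime] where
  /-- `true` for the alternating group -/
  alt : Bool
  g : (ZMod p)ˣ
  g_gen : ∀ u : (ZMod p)ˣ, ∃ r : ℕ, g ^ r = u
  g_ne : (g : ZMod p) ≠ 1
  κ : Fin k → ZMod p
  κ_inj : Function.Injective κ
  swp : Perm (ZMod p)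
  c : Perm (Pts p k)
  c_inf : ∀ t, c (Sum.inl (Sum.inr t)) = Sum.inl (Sum.inr t)
  c_old : ∀ l, c (Sum.inl (Sum.inl (κ l))) = Sum.inr l
  c_new : ∀ l, c (Sum.inr l) = Sum.inl (Sum.inl (κ l))
  c_fix : ∀ i, (∀ l, κ l ≠ i) → c (Sum.inl (Sum.inl i)) = Sum.inl (Sum.inl (swp i))
  swp_avoid : ∀ i, (∀ l, κ l ≠ i) → ∀ l, κ l ≠ swp i
  swp_sq : ∀ i, swp (swp i) = i
  swp_zero : swp 0 = 0
  zero_avoid : ∀ l, κ l ≠ 0
  c_sign : sign c = if alt then 1 else -1
  sh : Perm (Pt p)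
  sh' : Perm (Pt p)
  sh_c : c * emb p k sh * c⁻¹ = emb p k sh'
  sh_sign : sign sh = if alt then 1 else -1
  sh_reach : ∀ i, (∀ l, κ l ≠ i) → ∃ r : ℕ, (sh ^ r) (Sum.inl 0) = Sum.inl i ∧
    (((sh ^ r) (Sum.inr false) = Sum.inr false ∧ (sh ^ r) (Sum.inr true) = Sum.inr true) ∨
      ((sh ^ r) (Sum.inr false) = Sum.inr true ∧ (sh ^ r) (Sum.inr true) = Sum.inr false))
  σ : Perm (Pt p)
  τ : Perm (Pt p)
  m : ℕ
  m_odd : Odd m
  σ_pow : σ ^ m = 1
  σ_sign : sign σ = 1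
  τ_sign : sign τ = 1
  σ_inf : ∀ t, σ (Sum.inr t) = Sum.inr t
  τ_inf : ∀ t, τ (Sum.inr t) = Sum.inr t
  cross : Commute (emb p k σ) (c * emb p k τ * c⁻¹)
  u₁ : ZMod p
  u₂ : ZMod p
  u₁_avoid : ∀ l, κ l ≠ u₁
  u₂_avoid : ∀ l, κ l ≠ u₂
  u_ne : 0 < k → u₁ ≠ swp u₂
  σ_reach : ∀ l, ∃ r : ℕ, (σ ^ r) (Sum.inl u₁) = Sum.inl (κ l)
  τ_reach : ∀ l, ∃ r : ℕ, (τ ^ r) (Sum.inl u₂) = Sum.inl (κ l)
  σ_fix : 0 < k → σ (Sum.inl (swp u₂)) = Sum.inl (swp u₂)
  τ_fix : 0 < k → τ (Sum.inl (swp u₁)) = Sum.inl (swp u₁)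

namespace Data

variable [Fact p.Prime] (D : Data p k)

/-- The exponent of `b` in the last two relations. -/
def e : ℕ := if D.alt then 0 else 1

/-- The exponent of the relation presenting `AGL₁(p)`. -/
def s : ZMod p := (1 - (D.g : ZMod p))⁻¹

theorem one_sub_g_ne : (1 : ZMod p) - D.g ≠ 0 := sub_ne_zero.2 fun h => D.g_ne h.symm

theorem s_ne_zero : D.s ≠ 0 := inv_ne_zero D.one_sub_g_ne

theorem s_spec : D.s - 1 = D.g * D.s := by
  have h : D.s * (1 - (D.g : ZMod p)) = 1 := inv_mul_cancel₀ D.one_sub_g_ne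
  linear_combination h

/-- The translation. -/
def aP : Perm (Pt p) := Equiv.sumCongr (Equiv.addRight 1) 1

/-- The multiplication. -/
def bP : Perm (Pt p) :=
  Equiv.sumCongr (D.g.mulLeft) (if D.alt then swap false true else 1)

theorem c_sq : D.c * D.c = 1 := by
  ext u
  rcases u with (i | t) | l
  · by_cases h : ∃ l, D.κ l = i
    · obtain ⟨l, rfl⟩ := h
      rw [Perm.mul_apply, D.c_old, D.c_new]; rfl
    · push Not at h
      rw [Perm.mul_apply, D.c_fix i h, D.c_fix _ (D.swp_avoid i h), D.swp_sq]; rfl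
  · rw [Perm.mul_apply, D.c_inf, D.c_inf]; rfl
  · rw [Perm.mul_apply, D.c_new, D.c_old]; rfl

theorem c_inv : D.c⁻¹ = D.c := inv_eq_of_mul_eq_one_right D.c_sq

theorem conj_c_T3 (i : ZMod p) (hi : ∀ l, D.κ l ≠ i) :
    D.c * emb p k (T3 i) * D.c⁻¹ = emb p k (T3 (D.swp i)) := by
  rw [T3, emb_tri, conj_tri, D.c_inf, D.c_inf, D.c_fix i hi, T3, emb_tri]

theorem conj_c_T3' (l : Fin k) : D.c * emb p k (T3 (D.κ l)) * D.c⁻¹ =
    tri (Sum.inl (Sum.inr false)) (Sum.inl (Sum.inr true)) (Sum.inr l) := by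
  rw [T3, emb_tri, conj_tri, D.c_inf, D.c_inf, D.c_old]

/-- The target group. -/
def tgt : Subgroup (Perm (Pts p k)) := if D.alt then alternatingGroup (Pts p k) else ⊤

/-- The images of the generators. -/
def gens : Fin 3 → Perm (Pts p k) :=
  ![emb p k aP, emb p k D.bP, D.c * emb p k (T3 0)]

end Data

/-- A self-map lemma: a finite order element is inverse to one of its powers. -/
theorem inv_eq_pow_of_pow {G : Type*} [Group G] {y : G} {m : ℕ} (hm : 0 < m) (h : y ^ m = 1) :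
    y⁻¹ = y ^ (m - 1) := by
  rw [inv_eq_iff_mul_eq_one, ← pow_succ', Nat.sub_add_cancel hm, h]

theorem tail_collapse {G : Type*} [Group G] {σ q z : G} (hz : Commute σ z)
    (h : σ * q * σ⁻¹ * q⁻¹ = z) (m : ℕ) (hm : Commute (σ ^ m) q) : z ^ m = 1 := by
  have hstep : ∀ n : ℕ, σ ^ n * q * (σ ^ n)⁻¹ = z ^ n * q := by
    intro n
    induction n with
    | zero => simp
    | succ n ih =>
      calc σ ^ (n + 1) * q * (σ ^ (n + 1))⁻¹ = σ * (σ ^ n * q * (σ ^ n)⁻¹) * σ⁻¹ := by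
            rw [pow_succ']; group
        _ = σ * z ^ n * q * σ⁻¹ := by rw [ih]; group
        _ = z ^ n * (σ * q * σ⁻¹ * q⁻¹) * q := by rw [(hz.pow_right n).eq]; group
        _ = z ^ (n + 1) * q := by rw [h, pow_succ]
  have h1 := hstep m
  rw [hm.eq, mul_inv_cancel_right] at h1
  exact right_eq_mul.1 h1

/-- A pair of elements with `(xy)² = x³ = y³ = z` central in the group they generate: `z² = 1`. -/
theorem pair_collapse {G : Type*} [Group G] {x y z : G} (hx : x ^ 3 = z) (hy : y ^ 3 = z)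
    (hzx : Commute z x) (hzy : Commute z y) (h1 : (x * y) ^ 2 = z) (h2 : (y * x) ^ 2 = z) :
    z ^ 2 = 1 := by
  have hzu : Commute z (x * y) := hzx.mul_right hzy
  have hzv : Commute z (y * x) := hzy.mul_right hzx
  set u := x * y with hu
  set v := y * x with hv
  have key : x * u * x⁻¹ * (u * v) = z ^ 2 := by
    calc x * u * x⁻¹ * (u * v) = x ^ 2 * y ^ 3 * x := by
          simp only [hu, hv, pow_succ, pow_zero]; group
      _ = z * x ^ 3 := by rw [hy, ← (hzx.pow_right 2).eq]; simp only [pow_succ, pow_zero]; group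
      _ = z ^ 2 := by rw [hx, sq]
  have huv : u * v = (x * u * x⁻¹)⁻¹ * z ^ 2 := by rw [← key]; group
  have hzc : Commute (z ^ 2) (x * u * x⁻¹)⁻¹ :=
    (((hzx.mul_right hzu).mul_right hzx.inv_right).inv_right).pow_left 2
  have e1 : (u * v) ^ 2 = z ^ 3 := by
    rw [huv, hzc.symm.mul_pow, inv_pow, ← MulAut.conj_apply, ← map_pow, h1, MulAut.conj_apply,
      ← hzx.eq, mul_inv_cancel_right, ← pow_mul]
    group
  have e2 : (v * u) ^ 2 = z ^ 3 := by
    have hc : v * u = u⁻¹ * (u * v) * u⁻¹⁻¹ := by group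
    rw [hc, ← MulAut.conj_apply, ← map_pow, e1, MulAut.conj_apply, inv_inv,
      mul_assoc, ((hzu.pow_left 3).eq), inv_mul_cancel_left]
  have e3 : u * v * (v * u) = z ^ 2 := by
    rw [show u * v * (v * u) = u * v ^ 2 * u by rw [sq]; group, h2, ← hzu.eq, mul_assoc, ← sq, h1,
      ← sq]
  have e4 : (v * u) ^ 2 = z := by
    have hc : Commute (z ^ 2) (u * v)⁻¹ := ((hzu.mul_right hzv).inv_right).pow_left 2
    rw [show v * u = (u * v)⁻¹ * z ^ 2 by rw [← e3]; group, hc.symm.mul_pow, inv_pow, e1,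
      ← pow_mul]
    group
  rw [e2, show z ^ 3 = z ^ 2 * z by rw [← pow_succ]] at e4
  exact mul_eq_right.1 e4

section

variable [Fact p.Prime] (D : Data p k) {G : Type*} [Group G]

/-- The relations, read in a group with a map to the permutation group. -/
structure Sat (π : G →* Perm (Pts p k)) (a b d V V' W σw τw : G) : Prop where
  top : Subgroup.closure ({a, b, d} : Set G) = ⊤
  πa : π a = emb p k Data.aP
  πb : π b = emb p k D.bP
  πd : π d = D.c * emb p k (T3 0)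
  r1 : a ^ p = b ^ (p - 1)
  r2 : b * a ^ D.s.val * b⁻¹ = a ^ (D.s - 1).val
  r3 : b * (d ^ 2)⁻¹ * b⁻¹ = if D.alt then d ^ 2 else (d ^ 2)⁻¹
  r4 : ((d ^ 2)⁻¹ * (a * (d ^ 2)⁻¹ * a⁻¹)) ^ 2 = (d ^ 2)⁻¹ ^ 3
  mV : V ∈ Subgroup.closure (Set.range fun i : ZMod p => a ^ i.val * (d ^ 2)⁻¹ * (a ^ i.val)⁻¹)
  mV' : V' ∈ Subgroup.closure (Set.range fun i : ZMod p => a ^ i.val * (d ^ 2)⁻¹ * (a ^ i.val)⁻¹)
  mσ : σw ∈ Subgroup.closure (Set.range fun i : ZMod p => a ^ i.val * (d ^ 2)⁻¹ * (a ^ i.val)⁻¹)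
  mτ : τw ∈ Subgroup.closure (Set.range fun i : ZMod p => a ^ i.val * (d ^ 2)⁻¹ * (a ^ i.val)⁻¹)
  mW : W ∈ Subgroup.closure
    ((Set.range fun i : ZMod p => a ^ i.val * (d ^ 2)⁻¹ * (a ^ i.val)⁻¹) ∪
      Set.range fun i : ZMod p => d ^ 3 * (a ^ i.val * (d ^ 2)⁻¹ * (a ^ i.val)⁻¹) * (d ^ 3)⁻¹)
  πV : π (b * V) = emb p k D.sh
  πV' : π (b ^ D.e * V') = emb p k D.sh'
  πσ : π σw = emb p k D.σ
  πτ : π τw = emb p k D.τ
  r5 : d ^ 3 * (b * V) * (d ^ 3)⁻¹ = b ^ D.e * V'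
  r6 : σw * (d ^ 3 * τw * (d ^ 3)⁻¹) * σw⁻¹ * (d ^ 3 * τw * (d ^ 3)⁻¹)⁻¹ = (d ^ 2)⁻¹ ^ 3
  r7 : d ^ 3 = a * b ^ D.e * W

end

end CfsgLib.SymPresent
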