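import Cfsg.Agent.Lib.SymPresent.Bound

/-!
Gluing: the group satisfying the seven relations maps isomorphically onto the target.
-/

set_option autoImplicit false

namespace CfsgLib.SymPresent

open Equiv Equiv.Perm

theorem conj_mem_of_gens {G : Type*} [Group G] {s : Set G} {K : Subgroup G} (h : G)
    (hs : ∀ y ∈ s, h * y * h⁻¹ ∈ K) : ∀ y ∈ Subgroup.closure s, h * y * h⁻¹ ∈ K := by
  intro y hy
  have hle : Subgroup.closure s ≤ K.comap (MulAut.conj h).toMonoidHom :=
    (Subgroup.closure_le _).2 fun z hz => hs z hz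
  exact hle hy

theorem conj_pow_mem {G : Type*} [Group G] {K : Subgroup G} (h : G)
    (hK : ∀ y ∈ K, h * y * h⁻¹ ∈ K) (n : ℕ) : ∀ y ∈ K, h ^ n * y * (h ^ n)⁻¹ ∈ K := by
  induction n with
  | zero => intro y hy; simpa using hy
  | succ n ih =>
    intro y hy
    have := hK _ (ih y hy)
    rwa [show h * (h ^ n * y * (h ^ n)⁻¹) * h⁻¹ = h ^ (n + 1) * y * (h ^ (n + 1))⁻¹ by
      rw [pow_succ']; group] at this

theorem zmod_two_ne_zero : ∀ x : ZMod 2, x ≠ 0 → x = 1 := by decide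

theorem conj_power {G : Type*} [Group G] (g u : G) (n : ℕ) :
    (g * u * g⁻¹) ^ n = g * u ^ n * g⁻¹ := by
  rw [← MulAut.conj_apply, ← map_pow, MulAut.conj_apply]

variable {p k : ℕ} [Fact p.Prime] {D : Data p k} {G : Type*} [Group G]
  {π : G →* Perm (Pts p k)} {a b d V V' W σw τw : G}

namespace Sat

variable (S : Sat D π a b d V V' W σw τw)
include S

theorem inj₁ : Set.InjOn π (Subgroup.closure (Set.range (xs (p := p) a d)) : Set G) :=
  (injOn_of_carm S.carm.1 π (emb p k) emb_injective (a := Sum.inr false) (b := Sum.inr true)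
    (by simp) Sum.inl (by simp) (by simp) Sum.inl_injective
    (by rintro (u | u) h1 h2
        · exact ⟨u, rfl⟩
        · cases u <;> simp at h1 h2)
    (fun i => by rw [S.πxs]; rfl)).1

theorem a_norm : ∀ y ∈ Subgroup.closure (Set.range (xs (p := p) a d)),
    a * y * a⁻¹ ∈ Subgroup.closure (Set.range (xs (p := p) a d)) :=
  conj_mem_of_gens a <| by
    rintro _ ⟨i, rfl⟩
    rw [S.a_xs]
    exact Subgroup.subset_closure ⟨_, rfl⟩

theorem b_norm : ∀ y ∈ Subgroup.closure (Set.range (xs (p := p) a d)),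
    b * y * b⁻¹ ∈ Subgroup.closure (Set.range (xs (p := p) a d)) :=
  conj_mem_of_gens b <| by
    rintro _ ⟨i, rfl⟩
    rw [S.b_xs]
    cases D.alt
    · exact Subgroup.subset_closure ⟨_, rfl⟩
    · exact Subgroup.inv_mem _ (Subgroup.subset_closure ⟨_, rfl⟩)

theorem bV_norm {v : G} (n : ℕ) (hv : v ∈ Subgroup.closure (Set.range (xs (p := p) a d))) :
    ∀ y ∈ Subgroup.closure (Set.range (xs (p := p) a d)),
      b ^ n * v * y * (b ^ n * v)⁻¹ ∈ Subgroup.closure (Set.range (xs (p := p) a d)) := fun y hy => by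
  have := conj_pow_mem b S.b_norm n _ (Subgroup.mul_mem _ (Subgroup.mul_mem _ hv hy)
    (Subgroup.inv_mem _ hv))
  rwa [show b ^ n * (v * y * v⁻¹) * (b ^ n)⁻¹ = b ^ n * v * y * (b ^ n * v)⁻¹ by group] at this

theorem c_facts : (d ^ 3) ^ 2 = 1 ∧ π (d ^ 3) = D.c ∧ Commute (d ^ 3) (d ^ 2)⁻¹ ∧
    d ^ 3 * (d ^ 2)⁻¹ = d := by
  have hz := S.carm.2
  rw [inv_pow, inv_eq_one, ← pow_mul] at hz
  refine ⟨by rw [← pow_mul]; exact hz, ?_, ((Commute.refl d).pow_pow 3 2).inv_right,
    by rw [pow_succ' d 2, mul_inv_cancel_right]⟩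
  have hc := D.conj_c_T3 0 D.zero_avoid
  rw [D.swp_zero, mul_inv_eq_iff_eq_mul] at hc
  rw [map_pow, S.πd, (show Commute D.c (emb p k (T3 0)) from hc).mul_pow, ← map_pow (emb p k), T3,
    tri_cube (by simp) (by simp) (by simp), map_one, mul_one, pow_succ, sq, D.c_sq, one_mul]

/-- The gluing involution moves the three-cycles as expected. -/
theorem c_xs (i : ZMod p) (hi : ∀ l, D.κ l ≠ i) :
    d ^ 3 * xs a d i * (d ^ 3)⁻¹ = xs a d (D.swp i) := by
  obtain ⟨-, hπc, hcx, -⟩ := S.c_facts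
  set N := Subgroup.closure (Set.range (xs (p := p) a d)) with hN
  obtain ⟨r, hr, hinf⟩ := D.sh_reach i hi
  set y := (b * V) ^ r * xs a d (0 : ZMod p) * ((b * V) ^ r)⁻¹ with hy
  have hbV : ∀ w ∈ N, b * V * w * (b * V)⁻¹ ∈ N := fun w hw => by
    have := S.bV_norm 1 S.mV w hw
    rwa [pow_one] at this
  have hyN : y ∈ N := conj_pow_mem _ hbV r _ (Subgroup.subset_closure ⟨_, rfl⟩)
  have hc0 : d ^ 3 * xs a d (0 : ZMod p) * (d ^ 3)⁻¹ = xs a d (0 : ZMod p) := by
    rw [xs_zero S, hcx.eq, mul_inv_cancel_right]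
  have hcy : d ^ 3 * y * (d ^ 3)⁻¹ ∈ N := by
    have e : d ^ 3 * y * (d ^ 3)⁻¹ =
        (b ^ D.e * V') ^ r * xs a d (0 : ZMod p) * ((b ^ D.e * V') ^ r)⁻¹ := by
      calc d ^ 3 * y * (d ^ 3)⁻¹ = (d ^ 3 * (b * V) ^ r * (d ^ 3)⁻¹) *
            (d ^ 3 * xs a d (0 : ZMod p) * (d ^ 3)⁻¹) *
            (d ^ 3 * (b * V) ^ r * (d ^ 3)⁻¹)⁻¹ := by rw [hy]; group
        _ = _ := by rw [hc0, ← conj_power, S.r5]
    rw [e]
    exact conj_pow_mem _ (S.bV_norm D.e S.mV') r _ (Subgroup.subset_closure ⟨_, rfl⟩)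
  have hπy : π y = emb p k (tri ((D.sh ^ r) (Sum.inr false)) ((D.sh ^ r) (Sum.inr true))
      ((D.sh ^ r) (Sum.inl 0))) := by
    rw [← conj_tri, hy, map_mul, map_mul, map_inv π ((b * V) ^ r), map_pow, S.πV, S.πxs, map_mul,
      map_mul, map_inv, map_pow]
    rfl
  rw [hr] at hπy
  have hmem : xs a d i ∈ N := Subgroup.subset_closure ⟨_, rfl⟩
  have hcxs : d ^ 3 * xs a d i * (d ^ 3)⁻¹ ∈ N := by
    rcases hinf with ⟨h1, h2⟩ | ⟨h1, h2⟩
    · rw [h1, h2] at hπy
      rwa [S.inj₁ hmem hyN ((S.πxs i).trans hπy.symm)]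
    · rw [h1, h2, ← tri_inv (by simp) (by simp), map_inv] at hπy
      have e : xs a d i = y⁻¹ := by
        refine S.inj₁ hmem (N.inv_mem hyN) ?_
        rw [map_inv, hπy, inv_inv, S.πxs]; rfl
      rw [e, show d ^ 3 * y⁻¹ * (d ^ 3)⁻¹ = (d ^ 3 * y * (d ^ 3)⁻¹)⁻¹ by group]
      exact N.inv_mem hcy
  refine S.inj₁ hcxs (Subgroup.subset_closure ⟨_, rfl⟩) ?_
  rw [map_mul, map_mul, map_inv, hπc, S.πxs, S.πxs, D.conj_c_T3 i hi]

/-- Carmichael's generators on all points. -/
def ys (D : Data p k) (a d : G) : ZMod p ⊕ Fin k → G :=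
  Sum.elim (xs a d) fun l => d ^ 3 * xs a d (D.κ l) * (d ^ 3)⁻¹

/-- The cross pairs. -/
theorem cross_pair (i l : Fin k) :
    (xs a d (D.κ i) * (d ^ 3 * xs a d (D.κ l) * (d ^ 3)⁻¹)) ^ 2 = 1 := by
  obtain ⟨hc2, hπc, -, -⟩ := S.c_facts
  obtain ⟨hC, hz⟩ := S.carm
  set N := Subgroup.closure (Set.range (xs (p := p) a d)) with hN
  have hk : 0 < k := Nat.pos_of_ne_zero fun h => by subst h; exact i.elim0
  set c := d ^ 3 with hc
  have hcinv : c⁻¹ = c := inv_eq_of_mul_eq_one_right (by rw [← sq, hc2])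
  have hσq : Commute σw (c * τw * c⁻¹) := by
    have h := S.r6
    rw [hz, mul_inv_eq_one, mul_inv_eq_iff_eq_mul] at h
    exact h
  obtain ⟨r, hr⟩ := D.σ_reach i
  obtain ⟨s, hs⟩ := D.τ_reach l
  set h := σw ^ r with hhdef
  set g := c * τw ^ s * c⁻¹ with hgdef
  have hgh : Commute h g := by
    have := hσq.pow_pow r s
    rwa [← MulAut.conj_apply, ← map_pow, MulAut.conj_apply] at this
  have hxm : ∀ j : ZMod p, xs a d j ∈ N := fun j => Subgroup.subset_closure ⟨_, rfl⟩
  have hmove : ∀ (w : G) (f : Perm (Pt p)) (n : ℕ), w ∈ N → π w = emb p k f →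
      (∀ t, f (Sum.inr t) = Sum.inr t) → ∀ u v : ZMod p, (f ^ n) (Sum.inl u) = Sum.inl v →
      w ^ n * xs a d u * (w ^ n)⁻¹ = xs a d v := by
    intro w f n hw hπw hf u v huv
    have hfn : ∀ t, (f ^ n) (Sum.inr t) = Sum.inr t := fun t =>
      Equiv.Perm.pow_apply_eq_self_of_apply_eq_self (hf t) n
    refine S.inj₁ (N.mul_mem (N.mul_mem (N.pow_mem hw n) (hxm u))
      (N.inv_mem (N.pow_mem hw n))) (hxm v) ?_
    rw [map_mul, map_mul, map_inv, map_pow, hπw, S.πxs, S.πxs, ← map_pow, ← map_inv, ← map_mul,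
      ← map_mul, T3, conj_tri, hfn, hfn, huv]
    rfl
  have hh1 := hmove σw D.σ r S.mσ S.πσ D.σ_inf _ _ hr
  have hg2 := hmove τw D.τ s S.mτ S.πτ D.τ_inf _ _ hs
  have hhfix := hmove σw D.σ r S.mσ S.πσ D.σ_inf _ _
    (Equiv.Perm.pow_apply_eq_self_of_apply_eq_self (D.σ_fix hk) r)
  have hτfix := hmove τw D.τ s S.mτ S.πτ D.τ_inf _ _
    (Equiv.Perm.pow_apply_eq_self_of_apply_eq_self (D.τ_fix hk) s)
  have hc1 : c * xs a d D.u₁ * c⁻¹ = xs a d (D.swp D.u₁) := S.c_xs _ D.u₁_avoid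
  have hc2' : c * xs a d D.u₂ * c⁻¹ = xs a d (D.swp D.u₂) := S.c_xs _ D.u₂_avoid
  have hg1 : g * xs a d D.u₁ * g⁻¹ = xs a d D.u₁ := by
    calc g * xs a d D.u₁ * g⁻¹ = c * (τw ^ s * (c * xs a d D.u₁ * c⁻¹) * (τw ^ s)⁻¹) * c⁻¹ := by
          rw [hgdef]; simp only [mul_inv_rev, hcinv]; group
      _ = c * (c * xs a d D.u₁ * c⁻¹) * c⁻¹ := by rw [hc1, hτfix]
      _ = xs a d D.u₁ := by
          rw [show c * (c * xs a d D.u₁ * c⁻¹) * c⁻¹ = (c * c) * xs a d D.u₁ * (c * c)⁻¹ by group,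
            ← sq, hc2, one_mul, inv_one, mul_one]
  have hg2' : g * xs a d (D.swp D.u₂) * g⁻¹ = c * xs a d (D.κ l) * c⁻¹ := by
    rw [← hc2', ← hg2, hgdef]; group
  have key : MulAut.conj (h * g) (xs a d D.u₁ * xs a d (D.swp D.u₂)) =
      xs a d (D.κ i) * (c * xs a d (D.κ l) * c⁻¹) := by
    rw [map_mul]
    congr 1
    · rw [map_mul, MulAut.mul_apply, MulAut.conj_apply (g := g), hg1, MulAut.conj_apply]
      exact hh1
    · rw [hgh.eq, map_mul, MulAut.mul_apply, MulAut.conj_apply (g := h),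
        show h * xs a d (D.swp D.u₂) * h⁻¹ = xs a d (D.swp D.u₂) from hhfix, MulAut.conj_apply]
      exact hg2'
  rw [← key, ← map_pow, hC.pair _ _ (D.u_ne hk), map_one]

theorem carm_all : Carm (ys D a d) := by
  obtain ⟨hc2, hπc, -, -⟩ := S.c_facts
  obtain ⟨hC, hz⟩ := S.carm
  have hconj : ∀ (u v : G), (d ^ 3 * u * (d ^ 3)⁻¹) * (d ^ 3 * v * (d ^ 3)⁻¹) =
      MulAut.conj (d ^ 3) (u * v) := fun u v => by rw [map_mul]; rfl
  have hmix : ∀ (i : ZMod p) (l : Fin k),
      (xs a d i * (d ^ 3 * xs a d (D.κ l) * (d ^ 3)⁻¹)) ^ 2 = 1 := by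
    intro i l
    by_cases h : ∃ l', D.κ l' = i
    · obtain ⟨l', rfl⟩ := h
      exact S.cross_pair l' l
    · push Not at h
      rw [show xs a d i = d ^ 3 * xs a d (D.swp i) * (d ^ 3)⁻¹ by
        rw [S.c_xs _ (D.swp_avoid i h), D.swp_sq], hconj, ← map_pow,
        hC.pair _ _ (fun e => D.swp_avoid i h l e.symm), map_one]
  refine ⟨?_, ?_⟩
  · rintro (i | l)
    · exact hC.cube i
    · show (d ^ 3 * xs a d (D.κ l) * (d ^ 3)⁻¹) ^ 3 = 1
      rw [← MulAut.conj_apply, ← map_pow, hC.cube, map_one]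
  · rintro (i | l) (j | l') hne
    · exact hC.pair i j fun e => hne (congrArg Sum.inl e)
    · exact hmix i l'
    · show (d ^ 3 * xs a d (D.κ l) * (d ^ 3)⁻¹ * xs a d j) ^ 2 = 1
      have e : d ^ 3 * xs a d (D.κ l) * (d ^ 3)⁻¹ * xs a d j =
          MulAut.conj (xs a d j)⁻¹ (xs a d j * (d ^ 3 * xs a d (D.κ l) * (d ^ 3)⁻¹)) := by
        rw [MulAut.conj_apply]; group
      rw [e, ← map_pow, hmix, map_one]
    · show (d ^ 3 * xs a d (D.κ l) * (d ^ 3)⁻¹ * (d ^ 3 * xs a d (D.κ l') * (d ^ 3)⁻¹)) ^ 2 = 1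
      rw [hconj, ← map_pow, hC.pair _ _ (fun e => hne (congrArg Sum.inr (D.κ_inj e))), map_one]

theorem glue_data : Set.InjOn π (Subgroup.closure (Set.range (ys D a d)) : Set G) ∧
    (Subgroup.closure (Set.range (ys D a d))).map π = alternatingGroup (Pts p k) ∧
    2 * Nat.card (Subgroup.closure (Set.range (ys D a d))) =
      (Fintype.card (Pts p k)).factorial := by
  have h := injOn_of_carm S.carm_all π (MonoidHom.id _) Function.injective_id
    (a := (Sum.inl (Sum.inr false) : Pts p k)) (b := Sum.inl (Sum.inr true)) (by simp)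
    (Sum.elim (fun i => Sum.inl (Sum.inl i)) fun l => Sum.inr l)
    (by rintro (i | l) <;> simp) (by rintro (i | l) <;> simp)
    (by rintro (i | l) (j | l') e <;> simp at e <;> rw [e])
    (by rintro ((i | t) | l) h1 h2
        · exact ⟨Sum.inl i, rfl⟩
        · cases t <;> simp at h1 h2
        · exact ⟨Sum.inr l, rfl⟩)
    (by rintro (i | l)
        · show π (xs a d i) = _
          rw [S.πxs, T3, emb_tri]; rfl
        · show π (d ^ 3 * xs a d (D.κ l) * (d ^ 3)⁻¹) = _
          rw [map_mul, map_mul, map_inv, S.c_facts.2.1, S.πxs, D.conj_c_T3']; rfl)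
  rwa [Subgroup.map_id] at h

/-- The main theorem on the relations. -/
theorem bijective : Function.Injective π ∧ π.range = D.tgt := by
  classical
  obtain ⟨hc2, hπc, -, hcd⟩ := S.c_facts
  obtain ⟨hinj, hmap, hcard⟩ := S.glue_data
  set N₁ := Subgroup.closure (Set.range (xs (p := p) a d)) with hN₁
  set N := Subgroup.closure (Set.range (ys D a d)) with hN
  have : Finite N := (S.carm_all.bound_univ).1
  set c := d ^ 3 with hc
  have hcinv : c⁻¹ = c := inv_eq_of_mul_eq_one_right (by rw [← sq, hc2])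
  have hx : ∀ i, xs a d i ∈ N := fun i => Subgroup.subset_closure ⟨Sum.inl i, rfl⟩
  have hN₁le : N₁ ≤ N := (Subgroup.closure_le _).2 (by rintro _ ⟨i, rfl⟩; exact hx i)
  have hcN : ∀ y ∈ N, c * y * c⁻¹ ∈ N := conj_mem_of_gens c <| by
    rintro _ ⟨i | l, rfl⟩
    · by_cases h : ∃ l, D.κ l = i
      · obtain ⟨l, rfl⟩ := h
        exact Subgroup.subset_closure ⟨Sum.inr l, rfl⟩
      · push Not at h
        show c * xs a d i * c⁻¹ ∈ N
        rw [S.c_xs i h]
        exact hx _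
    · show c * (c * xs a d (D.κ l) * c⁻¹) * c⁻¹ ∈ N
      rw [show c * (c * xs a d (D.κ l) * c⁻¹) * c⁻¹ = (c * c) * xs a d (D.κ l) * (c * c)⁻¹ by group,
        ← sq, hc2, one_mul, inv_one, mul_one]
      exact hx _
  have hbVN : ∀ y ∈ N, b * V * y * (b * V)⁻¹ ∈ N := conj_mem_of_gens _ <| by
    rintro _ ⟨i | l, rfl⟩
    · have := S.bV_norm 1 S.mV _ (Subgroup.subset_closure ⟨i, rfl⟩)
      rw [pow_one] at this
      exact hN₁le this
    · have hsw : b * V = c * (b ^ D.e * V') * c⁻¹ := by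
        rw [← S.r5, show c * (c * (b * V) * c⁻¹) * c⁻¹ = (c * c) * (b * V) * (c * c)⁻¹ by group,
          ← sq, hc2, one_mul, inv_one, mul_one]
      show b * V * (c * xs a d (D.κ l) * c⁻¹) * (b * V)⁻¹ ∈ N
      rw [hsw, show c * (b ^ D.e * V') * c⁻¹ * (c * xs a d (D.κ l) * c⁻¹) *
        (c * (b ^ D.e * V') * c⁻¹)⁻¹ =
          c * (b ^ D.e * V' * xs a d (D.κ l) * (b ^ D.e * V')⁻¹) * c⁻¹ by group]
      exact hcN _ (hN₁le (S.bV_norm D.e S.mV' _ (Subgroup.subset_closure ⟨_, rfl⟩)))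
  have hmulN : ∀ u v : G, (∀ y ∈ N, u * y * u⁻¹ ∈ N) → (∀ y ∈ N, v * y * v⁻¹ ∈ N) →
      ∀ y ∈ N, u * v * y * (u * v)⁻¹ ∈ N := fun u v hu hv y hy => by
    rw [show u * v * y * (u * v)⁻¹ = u * (v * y * v⁻¹) * u⁻¹ by group]
    exact hu _ (hv y hy)
  have hselfN : ∀ w ∈ N, ∀ y ∈ N, w * y * w⁻¹ ∈ N := fun w hw y hy =>
    N.mul_mem (N.mul_mem hw hy) (N.inv_mem hw)
  have hbN : ∀ y ∈ N, b * y * b⁻¹ ∈ N := by
    have := hmulN _ _ hbVN (hselfN V⁻¹ (N.inv_mem (hN₁le S.mV)))
    simpa using this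
  have hWN : W ∈ N := (Subgroup.closure_le N).2 (by
    rintro _ (⟨i, rfl⟩ | ⟨i, rfl⟩)
    · exact hx i
    · exact hcN _ (hx i)) S.mW
  have hp1 : 0 < p - 1 := by have := (Fact.out : p.Prime).two_le; omega
  have haN : ∀ y ∈ N, a * y * a⁻¹ ∈ N := by
    have hbe : (b ^ D.e)⁻¹ = b ^ (D.e * (p - 2)) := by
      rw [inv_eq_iff_mul_eq_one, ← pow_add, show D.e + D.e * (p - 2) = (p - 1) * D.e by
        rw [show p - 1 = p - 2 + 1 by omega]; ring, pow_mul, S.bp, one_pow]
    have h7 : c = a * b ^ D.e * W := S.r7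
    have hae : a = c * W⁻¹ * (b ^ D.e)⁻¹ := by rw [h7]; group
    rw [hae, hbe]
    exact hmulN _ _ (hmulN _ _ hcN (hselfN _ (N.inv_mem hWN))) (conj_pow_mem b hbN _)
  have hdN : ∀ y ∈ N, d * y * d⁻¹ ∈ N := by
    have hm : (d ^ 2)⁻¹ ∈ N := by rw [← S.xs_zero]; exact hx 0
    have h := hmulN _ _ hcN (hselfN _ hm)
    rwa [hcd] at h
  have hd6 : d ^ 6 = 1 := by
    have := hc2
    rwa [hc, ← pow_mul] at this
  have hnorm : N.Normal := ⟨fun y hy g => by
    revert y
    have hg : g ∈ Subgroup.closure ({a, b, d} : Set G) := S.top ▸ Subgroup.mem_top g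
    induction hg using Subgroup.closure_induction_right with
    | one => intro y hy; simpa using hy
    | mul_right u _ z hz ih =>
      intro y hy
      rw [show u * z * y * (u * z)⁻¹ = u * (z * y * z⁻¹) * u⁻¹ by group]
      refine ih _ ?_
      simp only [Set.mem_insert_iff, Set.mem_singleton_iff] at hz
      rcases hz with rfl | rfl | rfl
      exacts [haN _ hy, hbN _ hy, hdN _ hy]
    | mul_inv_cancel u _ z hz ih =>
      intro y hy
      rw [show u * z⁻¹ * y * (u * z⁻¹)⁻¹ = u * (z⁻¹ * y * z⁻¹⁻¹) * u⁻¹ by group]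
      refine ih _ ?_
      simp only [Set.mem_insert_iff, Set.mem_singleton_iff] at hz
      rcases hz with rfl | rfl | rfl
      · rw [inv_eq_pow_of_pow (Fact.out : p.Prime).pos S.ap]
        exact conj_pow_mem _ haN _ _ hy
      · rw [inv_eq_pow_of_pow hp1 S.bp]
        exact conj_pow_mem _ hbN _ _ hy
      · rw [inv_eq_pow_of_pow (by norm_num : 0 < 6) hd6]
        exact conj_pow_mem _ hdN _ _ hy⟩
  set φ := QuotientGroup.mk' N with hφ
  have hk1 : ∀ w ∈ N, φ w = 1 := fun w hw => (QuotientGroup.eq_one_iff w).2 hw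
  have hφd : φ d = φ c := by
    have h := congrArg φ hcd
    rw [map_mul, hk1 (d ^ 2)⁻¹ (by rw [← S.xs_zero]; exact hx 0), mul_one] at h
    exact h.symm
  have h5 : φ c * φ b * (φ c)⁻¹ = φ b ^ D.e := by
    have hr5 : c * (b * V) * c⁻¹ = b ^ D.e * V' := S.r5
    have := congrArg φ hr5
    simpa only [map_mul, map_inv, map_pow φ b, hk1 _ (hN₁le S.mV), hk1 _ (hN₁le S.mV'), mul_one]
      using this
  have h7 : φ c = φ a * φ b ^ D.e := by
    rw [hc, S.r7, map_mul, map_mul, map_pow, hk1 _ hWN, mul_one]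
  have ha1 : φ a = 1 := by
    have hcomm : φ b * φ a ^ D.s.val * (φ b)⁻¹ = φ a ^ (D.s - 1).val := by
      simpa only [map_mul, map_inv, map_pow] using congrArg φ S.r2
    have hab : Commute (φ a) (φ b) := by
      cases halt : D.alt with
      | true =>
        simp only [Data.e, halt, if_true, pow_zero, mul_inv_eq_one] at h5
        rw [mul_eq_left] at h5
        rw [h5]; exact Commute.one_right _
      | false =>
        simp only [Data.e, halt, Bool.false_eq_true, if_false, pow_one] at h5 h7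
        rw [mul_inv_eq_iff_eq_mul, h7] at h5
        have h5' : φ a * φ b * φ b = φ b * φ a * φ b := by rw [h5]; group
        exact mul_right_cancel h5'
    rw [((hab.pow_left _).symm).eq, mul_inv_cancel_right, ← map_pow, ← map_pow,
      show D.s.val = (1 + (D.s - 1)).val by rw [add_sub_cancel], S.a_add, map_mul,
      mul_eq_right, ← Nat.cast_one, S.a_nat, pow_one] at hcomm
    exact hcomm
  rw [ha1, one_mul] at h7
  have hquot : ∀ u : G ⧸ N, ∃ n, n ≤ D.e ∧ u = φ b ^ n := by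
    have hb2 : φ b * φ b = φ b ^ 0 ∨ (D.e = 0 ∧ φ b = 1) := by
      cases halt : D.alt with
      | true =>
        simp only [Data.e, halt, if_true, pow_zero, mul_inv_eq_one] at h5 ⊢
        rw [mul_eq_left] at h5
        exact Or.inr ⟨trivial, h5⟩
      | false =>
        simp only [Data.e, halt, Bool.false_eq_true, if_false, pow_one] at h7
        refine Or.inl ?_
        rw [← h7, ← map_mul, ← sq, hc2, map_one, pow_zero]
    have hmul : ∀ n, n ≤ D.e → ∃ m, m ≤ D.e ∧ φ b ^ n * φ b = φ b ^ m := by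
      intro n hn
      rcases hb2 with h | ⟨he, h⟩
      · cases n with
        | zero =>
          by_cases he : D.e = 0
          · refine ⟨0, by omega, ?_⟩
            have halt : D.alt = true := by simpa [Data.e] using he
            simp only [Data.e, halt, if_true, pow_zero, mul_inv_eq_one] at h5
            rw [mul_eq_left] at h5
            rw [h5, mul_one]
          · exact ⟨1, by omega, by rw [pow_zero, one_mul, pow_one]⟩
        | succ n =>
          have : D.e ≤ 1 := by rw [Data.e]; split <;> omega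
          obtain rfl : n = 0 := by omega
          exact ⟨0, by omega, by rw [pow_one, h]⟩
      · exact ⟨0, by omega, by rw [h, one_pow, one_pow, one_mul]⟩
    have hgens : ∀ z ∈ ({a, b, d} : Set G), ∃ i, φ z = φ b ^ i := by
      intro z hz
      simp only [Set.mem_insert_iff, Set.mem_singleton_iff] at hz
      rcases hz with rfl | rfl | rfl
      · exact ⟨0, by rw [ha1, pow_zero]⟩
      · exact ⟨1, (pow_one _).symm⟩
      · exact ⟨D.e, hφd.trans h7⟩
    have hpow : ∀ i n, n ≤ D.e → ∃ m, m ≤ D.e ∧ φ b ^ n * φ b ^ i = φ b ^ m := by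
      intro i
      induction i with
      | zero => exact fun n hn => ⟨n, hn, by rw [pow_zero, mul_one]⟩
      | succ i ih =>
        intro n hn
        obtain ⟨m, hm, e⟩ := ih n hn
        obtain ⟨m', hm', e'⟩ := hmul m hm
        exact ⟨m', hm', by rw [pow_succ, ← mul_assoc, e, e']⟩
    intro u
    obtain ⟨g, rfl⟩ := QuotientGroup.mk'_surjective N u
    have hg : g ∈ Subgroup.closure ({a, b, d} : Set G) := S.top ▸ Subgroup.mem_top g
    induction hg using Subgroup.closure_induction_right with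
    | one => exact ⟨0, by omega, by rw [map_one, pow_zero]⟩
    | mul_right v _ z hz ih =>
      obtain ⟨n, hn, e⟩ := ih
      obtain ⟨i, hi⟩ := hgens z hz
      obtain ⟨m, hm, e'⟩ := hpow i n hn
      exact ⟨m, hm, by rw [map_mul, e, hi, e']⟩
    | mul_inv_cancel v _ z hz ih =>
      obtain ⟨n, hn, e⟩ := ih
      obtain ⟨i, hi⟩ := hgens z hz
      obtain ⟨m, hm, e'⟩ := hpow (i * (p - 2)) n hn
      refine ⟨m, hm, ?_⟩
      rw [map_mul, e, map_inv, hi, ← e', ← inv_pow, inv_eq_pow_of_pow hp1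
        (by rw [← map_pow, S.bp, map_one]), ← pow_mul, mul_comm, show p - 1 - 1 = p - 2 by omega]
  have hfinQ : Finite (G ⧸ N) := Finite.of_surjective (fun n : Fin (D.e + 1) => φ b ^ n.val)
    fun u => by obtain ⟨n, hn, e⟩ := hquot u; exact ⟨⟨n, by omega⟩, e.symm⟩
  have hcQ : Nat.card (G ⧸ N) ≤ D.e + 1 := by
    refine (Nat.card_le_card_of_surjective (fun n : Fin (D.e + 1) => φ b ^ n.val)
      fun u => by obtain ⟨n, hn, e⟩ := hquot u; exact ⟨⟨n, by omega⟩, e.symm⟩).trans ?_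
    rw [Nat.card_fin]
  have hfin : Finite G := Finite.of_subgroup_quotient N
  have hcG : Nat.card G ≤ Nat.card N * (D.e + 1) := by
    rw [Subgroup.card_eq_card_quotient_mul_card_subgroup N, mul_comm]
    exact Nat.mul_le_mul le_rfl hcQ
  have hnt : Nontrivial (Pts p k) :=
    ⟨⟨Sum.inl (Sum.inr false), Sum.inl (Sum.inr true), by simp⟩⟩
  have halt_le : alternatingGroup (Pts p k) ≤ π.range := hmap ▸ Subgroup.map_le_range π N
  have hsb : sign D.bP = if D.alt then 1 else -1 := by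
    have hsemb : ∀ f, sign (emb p k f) = sign f := fun f => by
      show sign (Equiv.Perm.sumCongr f 1) = _
      rw [Equiv.Perm.sign_sumCongr, Equiv.Perm.sign_one, mul_one]
    have hV : sign (π V) = 1 := Equiv.Perm.mem_alternatingGroup.1
      (hmap ▸ Subgroup.mem_map_of_mem π (hN₁le S.mV))
    have := congrArg sign S.πV
    rwa [map_mul, map_mul, hV, mul_one, S.πb, hsemb, hsemb, D.sh_sign] at this
  have hsemb : ∀ f, sign (emb p k f) = sign f := fun f => by
    show sign (Equiv.Perm.sumCongr f 1) = _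
    rw [Equiv.Perm.sign_sumCongr, Equiv.Perm.sign_one, mul_one]
  have hrange : π.range = D.tgt := by
    cases halt : D.alt with
    | true =>
      simp only [Data.tgt, halt, if_true]
      refine le_antisymm ?_ halt_le
      rw [MonoidHom.range_eq_map, ← S.top, MonoidHom.map_closure, Subgroup.closure_le]
      rintro _ ⟨z, hz, rfl⟩
      rw [SetLike.mem_coe, Equiv.Perm.mem_alternatingGroup]
      simp only [Set.mem_insert_iff, Set.mem_singleton_iff] at hz
      rcases hz with rfl | rfl | rfl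
      · have h1 : sign (π z) ^ p = 1 := by rw [← map_pow, ← map_pow, S.ap, map_one, map_one]
        rcases Int.units_eq_one_or (sign (π z)) with h | h
        · exact h
        · rw [h] at h1
          rcases (Fact.out : p.Prime).eq_two_or_odd' with rfl | hodd
          · exact absurd (zmod_two_ne_zero _ (Units.ne_zero _)) D.g_ne
          · rw [hodd.neg_one_pow] at h1
            exact absurd h1 (by decide)
      · rw [S.πb, hsemb, hsb, halt]; rfl
      · rw [S.πd, map_mul, D.c_sign, halt, hsemb, T3, sign_tri (by simp) (by simp)]; rfl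
    | false =>
      simp only [Data.tgt, halt, Bool.false_eq_true, if_false]
      refine top_le_iff.1 fun f _ => ?_
      rcases Int.units_eq_one_or (sign f) with h | h
      · exact halt_le (Equiv.Perm.mem_alternatingGroup.2 h)
      · have hm : f * D.c ∈ π.range := halt_le (Equiv.Perm.mem_alternatingGroup.2 (by
          rw [map_mul, h, D.c_sign, halt]; rfl))
        have h2 := π.range.mul_mem hm ⟨c, hπc⟩
        rwa [mul_assoc, D.c_sq, mul_one] at h2
  refine ⟨?_, hrange⟩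
  have hct : Nat.card N * (D.e + 1) = Nat.card π.range := by
    rw [hrange]
    cases halt : D.alt with
    | true =>
      simp only [Data.tgt, Data.e, halt, if_true]
      have := two_mul_card_alt (Ω := Pts p k)
      omega
    | false =>
      simp only [Data.tgt, Data.e, halt, Bool.false_eq_true, if_false]
      rw [Subgroup.card_top, Nat.card_perm, Nat.card_eq_fintype_card (α := Pts p k)]
      omega
  have hle : Nat.card G ≤ Nat.card π.range := hct ▸ hcG
  have hb := (π.rangeRestrict_surjective).bijective_of_nat_card_le hle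
  exact fun u v huv => hb.1 (Subtype.ext huv)

end Sat

end CfsgLib.SymPresent
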